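import Groth.Agent.Lib.LimDescend.Property
import Groth.Agent.Lib.LimDescend.Scheme
import Groth.Agent.Lib.LimDesc.Snd
import Groth.Agent.Lib.ConsLim.LimTop
import Mathlib.AlgebraicGeometry.Morphisms.Flat

/-!
# Coverings by finitely presented flat morphisms descend along limits
-/

set_option autoImplicit false
set_option backward.isDefEq.respectTransparency false
universe u

open CategoryTheory Limits AlgebraicGeometry TopologicalSpace

namespace GrothLib.ModLim8

open GrothLib.LimDescend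

variable {I : Type u} [SmallCategory I] [IsCofiltered I] (D : I ⥤ Scheme.{u}) (c : Cone D) (hc : IsLimit c)
  [∀ (i j : I) (f : i ⟶ j), IsAffineHom (D.map f)]

include hc in
/-- A covering of the limit by finitely presented flat morphisms with a property descends. -/
theorem exists_descend_cover (i₀ : I) [CompactSpace (D.obj i₀)] [QuasiSeparatedSpace (D.obj i₀)]
    (P : MorphismProperty Scheme.{u}) [P.IsStableUnderBaseChange] [IsZariskiLocalAtSource P]
    (hcomp : ∀ {A B C : Scheme.{u}} (a : A ⟶ B) (b : B ⟶ C) [IsOpenImmersion b], P a → P (a ≫ b))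
    (H : GrothLib.LimDesc.AffineCase P)
    (hflat : ∀ {A B : Scheme.{u}} (f : A ⟶ B), P f → Flat f)
    {ι : Type u} (U : ι → Scheme.{u}) (u : ∀ a, U a ⟶ c.pt) (hu : ∀ a, P (u a))
    [∀ a, LocallyOfFinitePresentation (u a)] [∀ a, QuasiCompact (u a)] [∀ a, QuasiSeparated (u a)]
    (hcov : ∀ x : c.pt, ∃ (a : ι) (y : U a), (u a).base y = x) :
    ∃ (i : I) (n : ℕ) (V : Fin n → Scheme.{u}) (v : ∀ j, V j ⟶ D.obj i) (a : Fin n → ι)
      (e : ∀ j, U (a j) ⟶ V j),
      (∀ j, P (v j) ∧ LocallyOfFinitePresentation (v j) ∧ QuasiCompact (v j) ∧ QuasiSeparated (v j)) ∧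
      (∀ x : D.obj i, ∃ (j : Fin n) (y : V j), (v j).base y = x) ∧
      ∀ j, IsPullback (e j) (u (a j)) (v j) (c.π.app i) := by
  classical
  have : CompactSpace c.pt := ConsLim.compactSpace_limit D c hc i₀
  have hopen : ∀ a, IsOpen (Set.range (u a).base) := fun a => by
    have : Flat (u a) := hflat _ (hu a)
    exact (u a).isOpenMap.isOpen_range
  obtain ⟨s, hs⟩ := isCompact_univ.elim_finite_subcover (fun a => Set.range (u a).base) hopen
    fun x _ => by
      obtain ⟨a, y, hy⟩ := hcov x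
      exact Set.mem_iUnion.2 ⟨a, y, hy⟩
  let a : Fin s.card → ι := fun k => (s.equivFin.symm k : ι)
  have ha : ∀ x : c.pt, ∃ (k : Fin s.card) (y : U (a k)), (u (a k)).base y = x := fun x => by
    obtain ⟨b, hb, y, hy⟩ := Set.mem_iUnion₂.1 (hs (Set.mem_univ x))
    refine ⟨s.equivFin ⟨b, hb⟩, ?_⟩
    have e : a (s.equivFin ⟨b, hb⟩) = b := by simp [a]
    rw [e]
    exact ⟨y, hy⟩
  -- models over the stages above `i₀`
  let F := Over.forget i₀
  have : ∀ j : Over i₀, CompactSpace ((F ⋙ D).obj j) := fun j => ConsLim.compactSpace_stage D j.hom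
  have : ∀ j : Over i₀, QuasiSeparatedSpace ((F ⋙ D).obj j) :=
    fun j => ConsLim.quasiSeparatedSpace_stage D j.hom
  have : ∀ (j k : Over i₀) (φ : j ⟶ k), IsAffineHom ((F ⋙ D).map φ) :=
    fun j k φ => inferInstanceAs (IsAffineHom (D.map φ.left))
  let c' := c.whisker F
  have hc' : IsLimit c' := (Functor.Initial.isLimitWhiskerEquiv F c).symm hc
  have hM : ∀ k : Fin s.card, ∃ (j : Over i₀) (M : Model (F ⋙ D) c' (u (a k) : U (a k) ⟶ c'.pt) j),
      P M.hom := fun k => by
    have : LocallyOfFinitePresentation (u (a k) : U (a k) ⟶ c'.pt) :=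
      inferInstanceAs (LocallyOfFinitePresentation (u (a k)))
    have : QuasiCompact (u (a k) : U (a k) ⟶ c'.pt) := inferInstanceAs (QuasiCompact (u (a k)))
    have : QuasiSeparated (u (a k) : U (a k) ⟶ c'.pt) := inferInstanceAs (QuasiSeparated (u (a k)))
    exact exists_model_property (F ⋙ D) c' hc' P hcomp H (u (a k) : U (a k) ⟶ c'.pt) (hu (a k))
  choose jk M hP using hM
  obtain ⟨m, hm⟩ := IsCofiltered.inf_objs_exists (insert (Over.mk (𝟙 i₀)) (Finset.univ.image jk))
  let φ : ∀ k, m ⟶ jk k := fun k =>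
    (hm (Finset.mem_insert_of_mem (Finset.mem_image_of_mem jk (Finset.mem_univ k)))).some
  let N : ∀ k, Model (F ⋙ D) c' (u (a k) : U (a k) ⟶ c'.pt) m :=
    fun k => Model.map (F ⋙ D) c' (M k) (φ k)
  have hN : ∀ k, P (N k).hom := fun k => MorphismProperty.pullback_snd (P := P) _ _ (hP k)
  -- the images at stage `m` cover the limit
  let W : Set ((F ⋙ D).obj m) := ⋃ k, Set.range (N k).hom.base
  have hW : IsOpen W := isOpen_iUnion fun k => by
    have : Flat (N k).hom := hflat _ (hN k)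
    exact (N k).hom.isOpenMap.isOpen_range
  have hpre : c'.π.app m ⁻¹' W = Set.univ := Set.eq_univ_of_forall fun x => by
    obtain ⟨k, y, hy⟩ := ha x
    refine Set.mem_iUnion.2 ⟨k, (N k).proj y, ?_⟩
    rw [← Scheme.Hom.comp_apply, (N k).isPullback.w, Scheme.Hom.comp_apply]
    exact congrArg _ hy
  obtain ⟨m', ψ, hψ⟩ := ConsLim.exists_stage_eq_top (F ⋙ D) c' hc' m hW hpre
  let L : ∀ k, Model (F ⋙ D) c' (u (a k) : U (a k) ⟶ c'.pt) m' :=
    fun k => Model.map (F ⋙ D) c' (N k) ψ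
  refine ⟨m'.left, s.card, fun k => (L k).obj, fun k => (L k).hom, a, fun k => (L k).proj,
    fun k => ⟨MorphismProperty.pullback_snd (P := P) _ _ (hN k), (L k).lfp, (L k).qc, (L k).qs⟩,
    fun x => ?_, fun k => (L k).isPullback⟩
  have hx : (F ⋙ D).map ψ x ∈ W := by
    have : x ∈ (F ⋙ D).map ψ ⁻¹' W := hψ ▸ Set.mem_univ x
    exact this
  obtain ⟨k, z, hz⟩ := Set.mem_iUnion.1 hx
  obtain ⟨y, -, hy⟩ := Scheme.Pullback.exists_preimage_pullback (f := (N k).hom)
    (g := (F ⋙ D).map ψ) z x hz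
  exact ⟨k, y, hy⟩

end GrothLib.ModLim8
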