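import Groth.Agent.Lib.LimDescend.Scheme
import Groth.Agent.Lib.LimDesc.Proper
import Groth.Agent.Lib.LimDesc.Local
import Groth.Agent.Lib.ConsLim.LimTop
import Groth.Agent.Lib.ModPair19.Closure
import Groth.Agent.S18744
import Groth.Agent.S18759
import Groth.Prelude.Def_W4c6modpairsegaMP

/-!
# Descending finitely presented admissible modifications along limits
-/

set_option autoImplicit false
set_option backward.isDefEq.respectTransparency false
universe u

open CategoryTheory Limits AlgebraicGeometry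

namespace GrothLib.ModLim8

open GrothLib.LimDesc GrothLib.LimDescend

variable {I : Type u} [SmallCategory I] [IsCofiltered I] (D : I ⥤ Scheme.{u}) (c : Cone D) (hc : IsLimit c)
  [∀ (i j : I) (f : i ⟶ j), IsAffineHom (D.map f)] [∀ i, CompactSpace (D.obj i)]
  [∀ i, QuasiSeparatedSpace (D.obj i)]

include hc in
/-- A finitely presented proper scheme over the limit has a proper model. -/
theorem exists_model_proper {P : Scheme.{u}} (p : P ⟶ c.pt) [IsProper p] [LocallyOfFinitePresentation p] :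
    ∃ (k : I) (M : Model D c p k), IsProper M.hom := by
  obtain ⟨i, ⟨M⟩⟩ := exists_model D c hc p
  haveI := M.lfp; haveI := M.qc; haveI := M.qs
  haveI : CompactSpace M.obj := QuasiCompact.compactSpace_of_compactSpace M.hom
  haveI : QuasiSeparatedSpace M.obj := quasiSeparatedSpace_of_quasiSeparated M.hom
  have hY : IsPullback (c.π.app i) (𝟙 c.pt) (𝟙 (D.obj i)) (c.π.app i) := IsPullback.of_id_fst.flip
  obtain ⟨j, hj⟩ := GrothLib.LimDesc.exists_isProper D hc M.hom (𝟙 _) hY M.isPullback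
  refine ⟨j.left, Model.map D c M j.hom, ?_⟩
  haveI : IsIso (pullback.snd (𝟙 (D.obj i)) (D.map j.hom)) := inferInstance
  have h1 := (isPullback_mapNat D i (𝟙 _) (M.hom ≫ 𝟙 _) M.hom rfl j).paste_vert
    (IsPullback.of_hasPullback (𝟙 (D.obj i)) (D.map j.hom))
  have h2 : IsPullback (pullback.fst M.hom (D.map j.hom)) (pullback.snd M.hom (D.map j.hom))
      (M.hom ≫ 𝟙 _) (D.map j.hom) := by
    rw [Category.comp_id]
    exact IsPullback.of_hasPullback _ _
  exact GrothLib.LimDesc.of_isPullback_of_isPullback @IsProper h1 h2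
    ((MorphismProperty.cancel_right_of_respectsIso @IsProper _ _).mpr hj)

include hc in
/-- Being invertible over an open of a stage descends to a later stage. -/
theorem exists_stage_isIso_restrict {P : Scheme.{u}} {p : P ⟶ c.pt} {i : I} (M : Model D c p i)
    (O : (D.obj i).Opens) [CompactSpace (O : Scheme.{u})] [IsIso (p ∣_ c.π.app i ⁻¹ᵁ O)] :
    ∃ (j : I) (φ : j ⟶ i), IsIso ((Model.map D c M φ).hom ∣_ D.map φ ⁻¹ᵁ O) := by
  haveI := M.lfp; haveI := M.qc; haveI := M.qs
  let f₀ := M.hom ∣_ O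
  haveI : QuasiCompact f₀ := IsZariskiLocalAtTarget.restrict ‹QuasiCompact M.hom› O
  haveI : QuasiSeparated f₀ := IsZariskiLocalAtTarget.restrict ‹QuasiSeparated M.hom› O
  haveI : LocallyOfFinitePresentation f₀ :=
    IsZariskiLocalAtTarget.restrict ‹LocallyOfFinitePresentation M.hom› O
  let U := c.π.app i ⁻¹ᵁ O
  have hY : IsPullback (c.π.app i ∣_ O) U.ι O.ι (c.π.app i) := isPullback_morphismRestrict _ _
  have h1 : IsPullback ((p ⁻¹ᵁ U).ι ≫ M.proj) (p ∣_ U) M.hom ((c.π.app i ∣_ O) ≫ O.ι) := by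
    rw [morphismRestrict_ι]
    exact (isPullback_morphismRestrict p U).flip.paste_horiz M.isPullback
  obtain ⟨qX, -, hX⟩ := GrothLib.LimDesc.exists_isPullback_of_comp h1
    (isPullback_morphismRestrict M.hom O).flip
  obtain ⟨j, hj⟩ := GrothLib.LimDesc.exists_isIso_of_compactSpace D hc f₀ O.ι hY hX
  refine ⟨j.left, j.hom, ?_⟩
  let φ := D.map j.hom
  let V := φ ⁻¹ᵁ O
  let m : V.toScheme ⟶ (diag D i O.ι).obj j := pullback.lift (φ ∣_ O) V.ι (morphismRestrict_ι φ O)
  have hm : m ≫ pullback.fst O.ι (D.map j.hom) = φ ∣_ O := pullback.lift_fst _ _ _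
  have h2 : IsPullback (((Model.map D c M j.hom).hom ⁻¹ᵁ V).ι ≫ pullback.fst M.hom φ)
      ((Model.map D c M j.hom).hom ∣_ V) M.hom ((φ ∣_ O) ≫ O.ι) := by
    rw [morphismRestrict_ι]
    exact (isPullback_morphismRestrict _ V).flip.paste_horiz (IsPullback.of_hasPullback M.hom φ)
  obtain ⟨q₁, -, hq₁⟩ := GrothLib.LimDesc.exists_isPullback_of_comp h2
    (isPullback_morphismRestrict M.hom O).flip
  rw [← hm] at hq₁
  obtain ⟨q₂, -, hq₂⟩ := GrothLib.LimDesc.exists_isPullback_of_comp hq₁
    (isPullback_mapNat D i O.ι _ f₀ rfl j)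
  exact (MorphismProperty.isomorphisms.iff _).mp
    (MorphismProperty.of_isPullback (P := MorphismProperty.isomorphisms Scheme.{u}) hq₂
      ((MorphismProperty.isomorphisms.iff _).mpr hj))

/-- A morphism from a modulus pair which over the interior lands where a closed immersion is
invertible factors through it. -/
theorem ker_le_of_isIso_restrict {Z Y P : Scheme.{u}} (cl : Y ⟶ P) [IsClosedImmersion cl]
    (V : P.Opens) [IsIso (cl ∣_ V)] (K : Z.IdealSheafData) (hK : BlowUp.IsEffCartierIdeal K)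
    (m : Z ⟶ P) (hm : ModPair.interior K ≤ m ⁻¹ᵁ V) : cl.ker ≤ m.ker := by
  haveI := GrothLib.ModPair19.dominant_interior hK
  let x := Z.homOfLE hm ≫ (m ∣_ V) ≫ inv (cl ∣_ V) ≫ (cl ⁻¹ᵁ V).ι
  have hx : x ≫ cl = (ModPair.interior K).ι ≫ m := by
    simp only [x, Category.assoc]
    rw [← morphismRestrict_ι cl V, IsIso.inv_hom_id_assoc, morphismRestrict_ι, Scheme.homOfLE_ι_assoc]
  refine (Scheme.Hom.le_ker_comp x cl).trans ?_
  rw [hx, Scheme.Hom.ker_comp, Scheme.Hom.ker_eq_bot, Scheme.IdealSheafData.map_bot]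

include hc in
/-- An admissible blow-up of a limit of modulus pairs with minimal affine transitions descends. -/
theorem exists_descend_admBlowup
    (J : ∀ i, (D.obj i).IdealSheafData) (hJ : ∀ i, BlowUp.IsEffCartierIdeal (J i))
    (hmin : ∀ (i j : I) (t : i ⟶ j), ModPair.IsMinimal (J i) (J j) (D.map t))
    (IX : c.pt.IdealSheafData) (hIX : ∀ i, IX = (J i).comap (c.π.app i))
    {Y : Scheme.{u}} (s : Y ⟶ c.pt) (hY : BlowUp.IsEffCartierIdeal (IX.comap s))
    (hs : ModPair.IsAdmBlowup (IX.comap s) IX s) :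
    ∃ (i : I) (Yi : Scheme.{u}) (IYi : Yi.IdealSheafData) (si : Yi ⟶ D.obj i),
      BlowUp.IsEffCartierIdeal IYi ∧ ModPair.IsAdmBlowup IYi (J i) si ∧
        ∃ e : Y ≅ ModPair.mprod (c.π.app i) si IX IYi,
          e.hom ≫ ModPair.mprodι (c.π.app i) si IX IYi ≫ pullback.fst (c.π.app i) si = s := by
  obtain ⟨i₀⟩ := IsCofiltered.nonempty (C := I)
  haveI : CompactSpace c.pt := ConsLim.compactSpace_limit D c hc i₀
  haveI := isAffineHom_π_app D c hc i₀
  haveI : QuasiSeparatedSpace c.pt := quasiSeparatedSpace_of_quasiSeparated (c.π.app i₀)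
  obtain ⟨hsmin, hsprop, hsiso⟩ := hs
  haveI := hsprop
  haveI : CompactSpace Y := QuasiCompact.compactSpace_of_compactSpace s
  haveI : QuasiSeparatedSpace Y := quasiSeparatedSpace_of_quasiSeparated s
  have hIXeff : BlowUp.IsEffCartierIdeal IX := by
    rw [hIX i₀]; exact Groth.Agent.S18744.result D c hc J hJ hmin i₀
  obtain ⟨A, instA, instA', D', c', -, e', J', hft, -, hcl, -, -, -, -, hJmin, hprop, hiso⟩ :=
    Groth.Agent.S18759.result (IX.comap s) IX hY hIXeff s (le_refl _)
  obtain ⟨α⟩ := IsCofiltered.nonempty (C := A)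
  let P := (D'.obj α).left
  let p : P ⟶ c.pt := (D'.obj α).hom
  let cl : Y ⟶ P := e'.inv.left ≫ (c'.π.app α).left
  haveI := hcl α
  haveI : IsIso e'.inv.left := inferInstanceAs (IsIso ((Over.forget _).map e'.inv))
  haveI : IsClosedImmersion cl := inferInstanceAs (IsClosedImmersion (e'.inv.left ≫ (c'.π.app α).left))
  have hclp : cl ≫ p = s := by
    show (e'.inv.left ≫ (c'.π.app α).left) ≫ (D'.obj α).hom = s
    rw [Category.assoc]
    exact (congrArg (e'.inv.left ≫ ·) (Over.w (c'.π.app α))).trans (Over.w e'.inv)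
  haveI : IsProper p := hprop hsprop α
  haveI : LocallyOfFinitePresentation p := (hft α).1
  haveI : IsIso (p ∣_ ModPair.interior IX) := hiso hsmin hsiso α
  obtain ⟨i₁, M₁, hM₁⟩ := exists_model_proper D c hc p
  haveI := GrothLib.ModPair19.isAffineHom_interior (hJ i₁)
  haveI : CompactSpace ((ModPair.interior (J i₁) : (D.obj i₁).Opens) : Scheme.{u}) :=
    QuasiCompact.compactSpace_of_compactSpace (ModPair.interior (J i₁)).ι
  haveI : IsIso (p ∣_ c.π.app i₁ ⁻¹ᵁ ModPair.interior (J i₁)) := by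
    rw [← GrothLib.ModPair19.interior_comap, ← hIX i₁]; infer_instance
  obtain ⟨k, φ, hk⟩ := exists_stage_isIso_restrict D c hc M₁ (ModPair.interior (J i₁))
  let M := Model.map D c M₁ φ
  haveI : IsProper M.hom := MorphismProperty.pullback_snd (P := @IsProper) _ _ hM₁
  haveI : IsIso (M.hom ∣_ ModPair.interior (J k)) := by
    rw [show J k = (J i₁).comap (D.map φ) from hmin k i₁ φ, GrothLib.ModPair19.interior_comap]
    exact hk
  let O := M.hom ⁻¹ᵁ ModPair.interior (J k)
  have hO : O = ModPair.interior ((J k).comap M.hom) := (GrothLib.ModPair19.interior_comap _ _).symm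
  let si : O.ι.image ⟶ D.obj k := O.ι.imageι ≫ M.hom
  let IYi := (J k).comap si
  have hIYi : BlowUp.IsEffCartierIdeal IYi := by
    show BlowUp.IsEffCartierIdeal ((J k).comap (O.ι.imageι ≫ M.hom))
    rw [Scheme.IdealSheafData.comap_comp]
    exact GrothLib.ModPair19.eff_closure (GrothLib.ModPair19.isLocPrincipal_comap
      (GrothLib.ModPair19.isLocPrincipal_of_eff (hJ k)) _) hO
  haveI : IsIso (O.ι.imageι ∣_ O) := GrothLib.ModPair19.isIso_closure_restrict hO
  have hadm : ModPair.IsAdmBlowup IYi (J k) si :=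
    ⟨rfl, inferInstanceAs (IsProper (O.ι.imageι ≫ M.hom)),
      GrothLib.ModPair19.isIso_restrict_comp O.ι.imageι M.hom (ModPair.interior (J k))⟩
  refine ⟨k, O.ι.image, IYi, si, hIYi, hadm, ?_⟩
  -- `Y` is the closure of the interior of the product
  have hw := M.isPullback.w
  have hint : ModPair.interior (IX.comap s) ≤ (cl ≫ M.proj) ⁻¹ᵁ O := by
    rw [GrothLib.ModPair19.interior_comap, hIX k, GrothLib.ModPair19.interior_comap,
      ← Scheme.Hom.comp_preimage, ← Scheme.Hom.comp_preimage, Category.assoc, hw, reassoc_of% hclp]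
  have hker : O.ι.imageι.ker ≤ (cl ≫ M.proj).ker := by
    rw [Scheme.IdealSheafData.ker_subschemeι]
    exact GrothLib.ModPair19.ker_le_of_interior hY O _ hint
  let yi := IsClosedImmersion.lift O.ι.imageι (cl ≫ M.proj) hker
  have hyi : yi ≫ O.ι.imageι = cl ≫ M.proj := IsClosedImmersion.lift_fac _ _ _
  have hyisi : s ≫ c.π.app k = yi ≫ si := by
    show _ = yi ≫ O.ι.imageι ≫ M.hom
    rw [reassoc_of% hyi, hw, reassoc_of% hclp]
  let a := pullback.lift s yi hyisi
  let mι := ModPair.mprodι (c.π.app k) si IX IYi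
  have hint2 : ModPair.interior (IX.comap s) ≤
      a ⁻¹ᵁ ModPair.prodInterior (c.π.app k) si IX IYi := by
    refine (le_inf ?_ ?_ : _ ≤ (a ⁻¹ᵁ pullback.fst (c.π.app k) si ⁻¹ᵁ ModPair.interior IX) ⊓
      (a ⁻¹ᵁ pullback.snd (c.π.app k) si ⁻¹ᵁ ModPair.interior IYi)).trans (le_of_eq rfl)
    · rw [← Scheme.Hom.comp_preimage, pullback.lift_fst, GrothLib.ModPair19.interior_comap]
    · rw [← Scheme.Hom.comp_preimage, pullback.lift_snd, ← GrothLib.ModPair19.interior_comap]
      refine le_of_eq (congrArg ModPair.interior ?_)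
      show IX.comap s = ((J k).comap si).comap yi
      rw [← Scheme.IdealSheafData.comap_comp, ← hyisi, Scheme.IdealSheafData.comap_comp, ← hIX k]
  have hker2 : mι.ker ≤ a.ker := by
    rw [Scheme.IdealSheafData.ker_subschemeι]
    exact GrothLib.ModPair19.ker_le_of_interior hY _ _ hint2
  let l := IsClosedImmersion.lift mι a hker2
  have hl : l ≫ mι = a := IsClosedImmersion.lift_fac _ _ _
  let m := M.isPullback.lift (mι ≫ pullback.snd (c.π.app k) si ≫ O.ι.imageι)
    (mι ≫ pullback.fst (c.π.app k) si) (by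
      rw [Category.assoc, Category.assoc, Category.assoc]
      exact congrArg (mι ≫ ·) pullback.condition.symm)
  have hm1 : m ≫ M.proj = mι ≫ pullback.snd (c.π.app k) si ≫ O.ι.imageι := M.isPullback.lift_fst _ _ _
  have hm2 : m ≫ p = mι ≫ pullback.fst (c.π.app k) si := M.isPullback.lift_snd _ _ _
  haveI : IsIso ((cl ≫ p) ∣_ ModPair.interior IX) := hclp.symm ▸ hsiso
  haveI : IsIso (cl ∣_ p ⁻¹ᵁ ModPair.interior IX) := by
    have h : IsIso ((cl ∣_ p ⁻¹ᵁ ModPair.interior IX) ≫ (p ∣_ ModPair.interior IX)) := by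
      have := ‹IsIso ((cl ≫ p) ∣_ ModPair.interior IX)›
      rwa [morphismRestrict_comp] at this
    exact IsIso.of_isIso_comp_right (cl ∣_ p ⁻¹ᵁ ModPair.interior IX) (p ∣_ ModPair.interior IX)
  have hker3 : cl.ker ≤ m.ker := by
    refine ker_le_of_isIso_restrict cl (p ⁻¹ᵁ ModPair.interior IX) _
      (GrothLib.ModPair19.eff_mprod (c.π.app k) si IX IYi hIXeff hIYi).1 m ?_
    rw [GrothLib.ModPair19.interior_comap, ← Scheme.Hom.comp_preimage, hm2]
  let n := IsClosedImmersion.lift cl m hker3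
  have hn : n ≫ cl = m := IsClosedImmersion.lift_fac _ _ _
  refine ⟨⟨l, n, ?_, ?_⟩, ?_⟩
  · rw [← cancel_mono cl, Category.assoc, hn, Category.id_comp]
    apply M.isPullback.hom_ext
    · rw [Category.assoc, hm1, reassoc_of% hl]
      exact (pullback.lift_snd_assoc _ _ _ _).trans hyi
    · rw [Category.assoc, hm2, reassoc_of% hl]
      exact (pullback.lift_fst _ _ _).trans hclp.symm
  · rw [← cancel_mono mι, Category.assoc, hl, Category.id_comp]
    apply pullback.hom_ext
    · rw [Category.assoc, pullback.lift_fst, ← hclp, reassoc_of% hn, hm2]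
    · rw [Category.assoc, pullback.lift_snd, ← cancel_mono O.ι.imageι, Category.assoc, hyi,
        reassoc_of% hn, hm1, Category.assoc]
  · show l ≫ mι ≫ pullback.fst _ _ = s
    rw [reassoc_of% hl]
    exact pullback.lift_fst _ _ _

end GrothLib.ModLim8
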