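import Groth.Agent.Lib.ModLim8.IdealStage
import Mathlib.AlgebraicGeometry.IdealSheaf.Functorial
import Mathlib.AlgebraicGeometry.AffineTransitionLimit

/-!
# Closures of opens in a cofiltered system with affine transition maps
-/

set_option autoImplicit false
set_option backward.isDefEq.respectTransparency false
universe u
set_option maxHeartbeats 300000

open CategoryTheory Limits AlgebraicGeometry TopologicalSpace

noncomputable section

namespace GrothLib.ModLim8

open GrothLib.ConsLim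

/-- Restriction to an open kills a section exactly when the inclusion does. -/
theorem ι_app_eq_zero_iff {X : Scheme.{u}} (O V : X.Opens) (x : Γ(X, V)) :
    O.ι.app V x = 0 ↔
      X.presheaf.map (homOfLE (inf_le_left : V ⊓ O ≤ V)).op x = 0 := by
  have h1 : O.ι ''ᵁ (O.ι ⁻¹ᵁ V) = V ⊓ O := by
    rw [Scheme.Hom.image_preimage_eq_opensRange_inf, Scheme.Opens.opensRange_ι, inf_comm]
  rw [Scheme.Opens.ι_app]
  constructor
  · intro h
    have h2 := congrArg (X.presheaf.map (homOfLE h1.ge).op) h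
    erw [← CategoryTheory.comp_apply, ← Functor.map_comp, map_zero] at h2
    exact h2
  · intro h
    have h2 := congrArg (X.presheaf.map (homOfLE h1.le).op) h
    erw [← CategoryTheory.comp_apply, ← Functor.map_comp, map_zero] at h2
    exact h2

variable {I : Type u} [SmallCategory I] (D : I ⥤ Scheme.{u})

/-- A compatible family of opens. -/
structure CompatOpens where
  /-- The opens. -/
  op : ∀ i, (D.obj i).Opens
  compat : ∀ (i j : I) (t : j ⟶ i), D.map t ⁻¹ᵁ op i = op j

variable {D} (O : CompatOpens D)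

theorem CompatOpens.ker_le {i j : I} (t : j ⟶ i) :
    (O.op i).ι.imageι.ker ≤ ((O.op j).ι.imageι ≫ D.map t).ker := by
  rw [Scheme.IdealSheafData.ker_subschemeι, ← Scheme.IdealSheafData.map_ker,
    Scheme.IdealSheafData.ker_subschemeι, Scheme.IdealSheafData.map_ker]
  have e : ((D.obj j).homOfLE (O.compat i j t).ge ≫ (D.map t ∣_ O.op i)) ≫ (O.op i).ι =
      (O.op j).ι ≫ D.map t := by simp
  rw [← e]
  exact Scheme.Hom.le_ker_comp _ _

/-- The transition maps between the closures. -/
def CompatOpens.trans {i j : I} (t : j ⟶ i) : (O.op j).ι.image ⟶ (O.op i).ι.image :=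
  IsClosedImmersion.lift (O.op i).ι.imageι ((O.op j).ι.imageι ≫ D.map t) (O.ker_le t)

@[reassoc]
theorem CompatOpens.trans_imageι {i j : I} (t : j ⟶ i) :
    O.trans t ≫ (O.op i).ι.imageι = (O.op j).ι.imageι ≫ D.map t :=
  IsClosedImmersion.lift_fac _ _ _

/-- The system of closures. -/
def CompatOpens.closure : I ⥤ Scheme.{u} where
  obj i := (O.op i).ι.image
  map t := O.trans t
  map_id i := by
    rw [← cancel_mono (O.op i).ι.imageι, O.trans_imageι, D.map_id, Category.comp_id, Category.id_comp]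
  map_comp {i j k} a b := by
    rw [← cancel_mono (O.op k).ι.imageι, Category.assoc, O.trans_imageι, O.trans_imageι,
      O.trans_imageι_assoc, D.map_comp]

/-- The closed immersions into the ambient system. -/
def CompatOpens.incl : O.closure ⟶ D where
  app i := (O.op i).ι.imageι
  naturality _ _ t := O.trans_imageι t

theorem CompatOpens.isAffineHom_map [∀ (i j : I) (f : i ⟶ j), IsAffineHom (D.map f)] {i j : I}
    (t : i ⟶ j) : IsAffineHom (O.closure.map t) := by
  haveI : IsAffineHom ((O.op i).ι.imageι ≫ D.map t) := inferInstance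
  rw [← O.trans_imageι t] at this
  exact IsAffineHom.of_comp (O.trans t) (O.op j).ι.imageι

variable {c : Cone D} (Oc : c.pt.Opens) (hOc : ∀ i, c.π.app i ⁻¹ᵁ O.op i = Oc)

include hOc in
theorem CompatOpens.ker_le_π (i : I) : (O.op i).ι.imageι.ker ≤ (Oc.ι.imageι ≫ c.π.app i).ker := by
  rw [Scheme.IdealSheafData.ker_subschemeι, ← Scheme.IdealSheafData.map_ker,
    Scheme.IdealSheafData.ker_subschemeι, Scheme.IdealSheafData.map_ker]
  have e : (c.pt.homOfLE (hOc i).ge ≫ (c.π.app i ∣_ O.op i)) ≫ (O.op i).ι = Oc.ι ≫ c.π.app i := by simp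
  rw [← e]
  exact Scheme.Hom.le_ker_comp _ _

/-- The projections from the closure in the limit. -/
def CompatOpens.toClosure (i : I) : Oc.ι.image ⟶ (O.op i).ι.image :=
  IsClosedImmersion.lift (O.op i).ι.imageι (Oc.ι.imageι ≫ c.π.app i) (O.ker_le_π Oc hOc i)

@[reassoc]
theorem CompatOpens.toClosure_imageι (i : I) :
    O.toClosure Oc hOc i ≫ (O.op i).ι.imageι = Oc.ι.imageι ≫ c.π.app i :=
  IsClosedImmersion.lift_fac _ _ _

theorem CompatOpens.toClosure_trans {i j : I} (t : j ⟶ i) :
    O.toClosure Oc hOc j ≫ O.trans t = O.toClosure Oc hOc i := by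
  rw [← cancel_mono (O.op i).ι.imageι, Category.assoc, O.trans_imageι, O.toClosure_imageι_assoc,
    O.toClosure_imageι, c.w]

/-- The cone on the closures. -/
def CompatOpens.closureCone : Cone O.closure where
  pt := Oc.ι.image
  π :=
    { app := fun i => O.toClosure Oc hOc i
      naturality := fun _ _ t => (Category.id_comp _).trans (O.toClosure_trans Oc hOc t).symm }

theorem CompatOpens.closureCone_π (i : I) :
    (O.closureCone Oc hOc).π.app i ≫ (O.op i).ι.imageι = Oc.ι.imageι ≫ c.π.app i :=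
  O.toClosure_imageι Oc hOc i

variable [IsCofiltered I] [∀ (i j : I) (f : i ⟶ j), IsAffineHom (D.map f)]
  [∀ i, QuasiCompact (O.op i).ι] [∀ i, QuasiSeparatedSpace (D.obj i)] (hc : IsLimit c)

include hOc hc in
/-- The ideal of the closure in the limit comes from the stages. -/
theorem CompatOpens.ker_ι_le : Oc.ι.ker ≤ ⨆ i, ((O.op i).ι.ker).comap (c.π.app i) := by
  have := isAffineHom_π_app D c hc
  obtain ⟨i₀⟩ := IsCofiltered.nonempty (C := I)
  refine Scheme.IdealSheafData.le_of_iSup_eq_top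
    (fun U : (D.obj i₀).affineOpens => ⟨c.π.app i₀ ⁻¹ᵁ U.1, U.2.preimage _⟩) ?_ fun U x hx => ?_
  · refine eq_top_iff.2 fun z _ => ?_
    obtain ⟨V, hV, hzV, -⟩ := exists_isAffineOpen_mem_and_subset (Opens.mem_top (c.π.app i₀ z))
    exact Opens.mem_iSup.2 ⟨⟨V, hV⟩, hzV⟩
  let V : c.pt.Opens := c.π.app i₀ ⁻¹ᵁ U.1
  have hx0 : Oc.ι.app V x = 0 := RingHom.mem_ker.mp (Scheme.IdealSheafData.ideal_ofIdeals_le _ _ hx)
  rw [ι_app_eq_zero_iff] at hx0
  obtain ⟨k, φ, s, hs⟩ := exists_common_lift hc U.2 (fun _ : Fin 1 => (x : Γ(c.pt, V)))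
  let W := D.map φ ⁻¹ᵁ U.1
  have hW : IsAffineOpen W := U.2.preimage _
  have hVW : V ≤ pr c k ⁻¹ᵁ W := π_le c φ U.1
  have hle : c.π.app k ⁻¹ᵁ (W ⊓ O.op k) ≤ V ⊓ Oc := by
    refine le_inf (fun z hz => ?_) (fun z hz => (hOc k).le hz.2)
    show c.π.app i₀ z ∈ U.1
    rw [← c.w φ, Scheme.Hom.comp_apply]
    exact hz.1
  have h1 : (c.π.app k).app (W ⊓ O.op k)
      ((D.obj k).presheaf.map (homOfLE (inf_le_left : W ⊓ O.op k ≤ W)).op (s 0)) = 0 := by
    rw [← CategoryTheory.comp_apply, Scheme.Hom.app_eq_appLE, Scheme.Hom.map_appLE]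
    have h2 := congrArg (c.pt.presheaf.map (homOfLE hle).op) hx0
    rw [map_zero, ← CategoryTheory.comp_apply, ← Functor.map_comp] at h2
    rw [← hs 0] at h2
    erw [← CategoryTheory.comp_apply, Scheme.Hom.appLE_map] at h2
    exact h2
  have hcpt : IsCompact ((W ⊓ O.op k : (D.obj k).Opens) : Set (D.obj k)) := by
    haveI : CompactSpace (W : Scheme.{u}) := isCompact_iff_compactSpace.mp hW.isCompact
    have h := (O.op k).ι.isCompact_preimage hW.isCompact
    have h' := h.image (O.op k).ι.continuous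
    rwa [Scheme.Hom.coe_preimage, Set.image_preimage_eq_inter_range, Scheme.Opens.range_ι] at h'
  obtain ⟨m, ψ, hm⟩ := exists_app_map_eq_zero_of_isLimit D c hc hcpt _ h1
  let Wm : (D.obj m).affineOpens := ⟨D.map ψ ⁻¹ᵁ W, hW.preimage _⟩
  let sm := (D.map ψ).app W (s 0)
  have hsm : sm ∈ ((O.op m).ι.ker).ideal Wm := by
    rw [Scheme.Hom.ker_apply, RingHom.mem_ker]
    show (O.op m).ι.app Wm.1 sm = 0
    rw [ι_app_eq_zero_iff]
    have e : Wm.1 ⊓ O.op m ≤ D.map ψ ⁻¹ᵁ (W ⊓ O.op k) :=
      fun z hz => ⟨hz.1, (O.compat k m ψ).ge hz.2⟩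
    have h3 : (D.map ψ).appLE (W ⊓ O.op k) (Wm.1 ⊓ O.op m) e
        ((D.obj k).presheaf.map (homOfLE (inf_le_left : W ⊓ O.op k ≤ W)).op (s 0)) = 0 := by
      rw [Scheme.Hom.appLE, CommRingCat.comp_apply, hm, map_zero]
    rw [← CategoryTheory.comp_apply, Scheme.Hom.map_appLE] at h3
    show (D.obj m).presheaf.map _ ((D.map ψ).app W (s 0)) = 0
    rw [← CategoryTheory.comp_apply, Scheme.Hom.app_eq_appLE, Scheme.Hom.appLE_map]
    exact h3
  refine SetLike.le_def.mp ((le_iSup (fun i => ((O.op i).ι.ker).comap (c.π.app i)) m) ⟨V, U.2.preimage _⟩) ?_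
  have e2 : V ≤ c.π.app m ⁻¹ᵁ Wm.1 := by
    intro z hz
    show D.map ψ (c.π.app m z) ∈ W
    rw [← Scheme.Hom.comp_apply, c.w]
    exact hVW hz
  rw [GrothLib.BlowUp.ideal_comap_eq_map _ _ Wm ⟨V, U.2.preimage _⟩ e2]
  have h4 : x = (c.π.app m).appLE Wm.1 V e2 sm := by
    rw [← hs 0]
    exact (appLE_appLE (pr_w c ψ) _ _ _ le_rfl e2 hVW (s 0)).symm.trans
      (by simp only [sm, Scheme.Hom.app_eq_appLE]; rfl)
  rw [h4]
  exact Ideal.mem_map_of_mem _ hsm

include hc in
/-- The closure in the limit is the limit of the closures. -/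
def CompatOpens.isLimitClosureCone : IsLimit (O.closureCone Oc hOc) := by
  have hl : ∀ s : Cone O.closure, ∃ m : s.pt ⟶ Oc.ι.image,
      m ≫ Oc.ι.imageι = hc.lift ((Cone.postcompose O.incl).obj s) := fun s => by
    let w := hc.lift ((Cone.postcompose O.incl).obj s)
    have hw : ∀ i, w ≫ c.π.app i = s.π.app i ≫ (O.op i).ι.imageι := fun i => hc.fac _ i
    refine ⟨IsClosedImmersion.lift Oc.ι.imageι w ?_, IsClosedImmersion.lift_fac _ _ _⟩
    rw [Scheme.IdealSheafData.ker_subschemeι]
    refine (O.ker_ι_le Oc hOc hc).trans (iSup_le fun i => ?_)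
    rw [← Scheme.IdealSheafData.le_map_iff_comap_le, Scheme.IdealSheafData.map_ker, hw i]
    refine le_trans ?_ (Scheme.Hom.le_ker_comp _ _)
    rw [Scheme.IdealSheafData.ker_subschemeι]
  exact
    { lift := fun s => (hl s).choose
      fac := fun s i => by
        rw [← cancel_mono (O.op i).ι.imageι, Category.assoc]
        erw [O.closureCone_π Oc hOc i]
        rw [reassoc_of% (hl s).choose_spec]
        exact hc.fac _ i
      uniq := fun s m hm => by
        rw [← cancel_mono Oc.ι.imageι, (hl s).choose_spec]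
        refine hc.hom_ext fun i => ?_
        rw [hc.fac, Category.assoc]
        erw [← O.closureCone_π Oc hOc i]
        rw [← Category.assoc, hm i]
        rfl }

end GrothLib.ModLim8
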