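import Groth.Agent.Lib.AbsApprox.ClosedSystem
import Groth.Agent.Lib.ConsLim.LimTop
import Mathlib.AlgebraicGeometry.Morphisms.SchemeTheoreticallyDominant
import Mathlib.AlgebraicGeometry.AffineTransitionLimit

/-!
# Morphisms out of a limit with scheme-theoretically dominant transition maps
-/

set_option autoImplicit false
set_option backward.isDefEq.respectTransparency false
universe u

open CategoryTheory Limits AlgebraicGeometry TopologicalSpace

namespace GrothLib.ModLim8

variable {I : Type u} [SmallCategory I] [IsCofiltered I]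

/-- The projections of a limit with affine dominant transition maps are dominant. -/
theorem isSchemeTheoreticallyDominant_π (D : I ⥤ Scheme.{u}) (c : Cone D) (hc : IsLimit c)
    [∀ (i j : I) (f : i ⟶ j), IsAffineHom (D.map f)]
    [∀ (i j : I) (f : i ⟶ j), IsSchemeTheoreticallyDominant (D.map f)] (i : I) :
    IsSchemeTheoreticallyDominant (c.π.app i) := by
  have := isAffineHom_π_app D c hc
  refine ⟨Scheme.IdealSheafData.ext (funext fun U => ?_)⟩
  rw [Scheme.Hom.ker_apply, Scheme.IdealSheafData.ideal_bot, Pi.bot_apply, eq_bot_iff]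
  intro s hs
  obtain ⟨j, f, hf⟩ := exists_app_map_eq_zero_of_isLimit D c hc U.2.isCompact s (RingHom.mem_ker.1 hs)
  have h : (D.map f).ker.ideal U = ⊥ := by
    rw [(D.map f).ker_eq_bot, Scheme.IdealSheafData.ideal_bot]; rfl
  rw [Scheme.Hom.ker_apply] at h
  exact h.le (RingHom.mem_ker.2 hf)

variable {S : Scheme.{u}} (D : I ⥤ Over S) (c : Cone D) (hc : IsLimit c)
  [∀ (i j : I) (t : i ⟶ j), IsAffineHom (D.map t).left]
  [∀ i, CompactSpace (D.obj i).left] [∀ i, QuasiSeparatedSpace (D.obj i).left]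
  (Y : Over S) [LocallyOfFiniteType Y.hom]

/-- The maps to the base, as a natural transformation. -/
def toBase : D ⋙ Over.forget S ⟶ (Functor.const I).obj S where
  app i := (D.obj i).hom
  naturality _ _ a := (Over.w (D.map a)).trans (Category.comp_id _).symm

include hc in
theorem exists_hom_eq {i : I} (φ ψ : D.obj i ⟶ Y) (h : c.π.app i ≫ φ = c.π.app i ≫ ψ) :
    ∃ (j : I) (t : j ⟶ i), D.map t ≫ φ = D.map t ≫ ψ := by
  have : ∀ (i j : I) (f : i ⟶ j), IsAffineHom ((D ⋙ Over.forget S).map f) :=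
    fun i j f => inferInstanceAs (IsAffineHom (D.map f).left)
  have : ∀ i, CompactSpace ((D ⋙ Over.forget S).obj i) := fun i => inferInstanceAs (CompactSpace (D.obj i).left)
  obtain ⟨j, t, ht⟩ := Scheme.exists_hom_comp_eq_comp_of_locallyOfFiniteType (D ⋙ Over.forget S)
    (toBase D) Y.hom ((Over.forget S).mapCone c) (isLimitOfPreserves (Over.forget S) hc)
    φ.left ψ.left (Over.w φ).symm (Over.w ψ).symm (congrArg CommaMorphism.left h)
  exact ⟨j, t, Over.OverMorphism.ext ht⟩

include hc in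
theorem exists_hom [QuasiSeparatedSpace S] [CompactSpace Y.left] [QuasiSeparatedSpace Y.left]
    [∀ (i j : I) (t : i ⟶ j), IsSchemeTheoreticallyDominant (D.map t).left] (φ : c.pt ⟶ Y) :
    ∃ (i : I) (φi : D.obj i ⟶ Y), c.π.app i ≫ φi = φ := by
  have : ∀ (i j : I) (f : i ⟶ j), IsAffineHom ((D ⋙ Over.forget S).map f) :=
    fun i j f => inferInstanceAs (IsAffineHom (D.map f).left)
  have : ∀ (i j : I) (f : i ⟶ j), IsSchemeTheoreticallyDominant ((D ⋙ Over.forget S).map f) :=
    fun i j f => inferInstanceAs (IsSchemeTheoreticallyDominant (D.map f).left)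
  have : ∀ i, CompactSpace ((D ⋙ Over.forget S).obj i) := fun i => inferInstanceAs (CompactSpace (D.obj i).left)
  have : ∀ i, QuasiSeparatedSpace ((D ⋙ Over.forget S).obj i) :=
    fun i => inferInstanceAs (QuasiSeparatedSpace (D.obj i).left)
  obtain ⟨J, _, _, _, E, π, -, h1, -, h3⟩ := GrothLib.AbsApprox.exists_closed_system Y.hom
  obtain ⟨k⟩ : Nonempty Jᵒᵖ := inferInstance
  obtain ⟨hp, -, -, -, hqs⟩ := h1 k
  let ι : Y.left ⟶ (E.obj k).left := (π.app k).left
  have : IsClosedImmersion ι := h3 k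
  have hι : ι ≫ (E.obj k).hom = Y.hom := Over.w (π.app k)
  let cF := (Over.forget S).mapCone c
  have hcF : IsLimit cF := isLimitOfPreserves (Over.forget S) hc
  obtain ⟨i, ψ, hψ, hψt⟩ := Scheme.exists_π_app_comp_eq_of_locallyOfFinitePresentation
    (D ⋙ Over.forget S) (toBase D) (E.obj k).hom cF hcF (φ.left ≫ ι) (by
      ext j
      show (c.π.app j).left ≫ (D.obj j).hom = (φ.left ≫ ι) ≫ (E.obj k).hom
      rw [Category.assoc, hι, Over.w φ]
      exact Over.w (c.π.app j))
  have hdom := isSchemeTheoreticallyDominant_π (D ⋙ Over.forget S) cF hcF i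
  have := isAffineHom_π_app (D ⋙ Over.forget S) cF hcF
  have : QuasiCompact ψ := quasiCompact_of_compactSpace ψ
  have hker : ι.ker ≤ ψ.ker := by
    have h : (cF.π.app i ≫ ψ).ker = ψ.ker := by
      rw [Scheme.Hom.ker_comp, hdom.ker_eq_bot, Scheme.IdealSheafData.map_bot]
    rw [← h, hψ]
    exact Scheme.Hom.le_ker_comp _ _
  obtain ⟨ω, hω⟩ : ∃ ω : (D.obj i).left ⟶ Y.left, ω ≫ ι = ψ :=
    ⟨IsClosedImmersion.lift ι ψ hker, IsClosedImmersion.lift_fac ι ψ hker⟩
  refine ⟨i, Over.homMk ω ?_, Over.OverMorphism.ext ?_⟩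
  · rw [← hι, reassoc_of% hω]
    exact hψt
  · show (c.π.app i).left ≫ ω = φ.left
    rw [← cancel_mono ι, Category.assoc, hω]
    exact hψ

end GrothLib.ModLim8
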