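import Groth.Agent.Lib.ConsLim.LimFlat
import Groth.Agent.Lib.BlowUp.IdealComap
import Groth.Agent.Lib.Nagata6.ExtendIdeal
import Groth.Agent.Lib.ABU25.Basic

/-!
# Inequalities between ideal sheaves descend to a stage
-/

set_option autoImplicit false
set_option backward.isDefEq.respectTransparency false
universe u

open CategoryTheory Limits AlgebraicGeometry TopologicalSpace

namespace GrothLib.ModLim8

open GrothLib.ConsLim

variable {I : Type u} [SmallCategory I] [IsCofiltered I] {D : I ⥤ Scheme.{u}} {c : Cone D}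
  [∀ (i j : I) (f : i ⟶ j), IsAffineHom (D.map f)] (hc : IsLimit c)

/-- The pullback of sections to a stage. -/
abbrev appS (D : I ⥤ Scheme.{u}) {i k : I} (φ : k ⟶ i) (U : (D.obj i).Opens) :
    Γ(D.obj i, U) →+* Γ(D.obj k, D.map φ ⁻¹ᵁ U) :=
  ((D.map φ).appLE U (D.map φ ⁻¹ᵁ U) le_rfl).hom

/-- Elements of a pulled back ideal go to later stages. -/
theorem transfer {i k m : I} (U : (D.obj i).Opens) (K : Ideal Γ(D.obj i, U)) (φ : k ⟶ i) (ψ : m ⟶ k)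
    (χ : m ⟶ i) (h : ψ ≫ φ = χ) :
    ∃ T : Γ(D.obj k, D.map φ ⁻¹ᵁ U) →+* Γ(D.obj m, D.map χ ⁻¹ᵁ U),
      T.comp (appS D φ U) = appS D χ U ∧
      (∀ t, (pr c m).appLE _ (pr c i ⁻¹ᵁ U) (π_le c χ U) (T t) =
        (pr c k).appLE _ (pr c i ⁻¹ᵁ U) (π_le c φ U) t) ∧
      (∀ t, (D.map ψ).app (D.map φ ⁻¹ᵁ U) t = 0 → T t = 0) ∧
      ∀ t ∈ K.map (appS D φ U), T t ∈ K.map (appS D χ U) := by
  subst h
  let T : Γ(D.obj k, D.map φ ⁻¹ᵁ U) →+* Γ(D.obj m, D.map (ψ ≫ φ) ⁻¹ᵁ U) :=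
    ((D.map ψ).appLE _ _ (stage_le D φ ψ U).le).hom
  have hT : T.comp (appS D φ U) = appS D (ψ ≫ φ) U := RingHom.ext fun a =>
    appLE_appLE (D.map_comp ψ φ).symm U _ _ le_rfl _ le_rfl a
  refine ⟨T, hT, fun t => appLE_appLE (pr_w c ψ) _ _ _ _ _ (π_le c φ U) t, fun t ht => ?_,
    fun t ht => ?_⟩
  · show (D.map ψ).appLE _ _ _ t = 0
    rw [Scheme.Hom.appLE, CommRingCat.comp_apply, ht, map_zero]
  · rw [← hT, ← Ideal.map_map]
    exact Ideal.mem_map_of_mem T ht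

include hc in
/-- Membership in a pulled back ideal descends to a stage. -/
theorem exists_stage_mem {i : I} {U : (D.obj i).Opens} (hU : IsAffineOpen U) (K : Ideal Γ(D.obj i, U))
    (f : Γ(D.obj i, U))
    (h : (pr c i).appLE U _ le_rfl f ∈ K.map ((pr c i).appLE U (pr c i ⁻¹ᵁ U) le_rfl).hom) :
    ∃ (k : I) (φ : k ⟶ i), appS D φ U f ∈ K.map (appS D φ U) := by
  let P : Γ(c.pt, pr c i ⁻¹ᵁ U) → Prop := fun b =>
    ∃ (k : I) (φ : k ⟶ i), ∃ t ∈ K.map (appS D φ U), (pr c k).appLE _ _ (π_le c φ U) t = b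
  have hP : P ((pr c i).appLE U _ le_rfl f) := by
    refine Submodule.span_induction (p := fun b _ => P b) ?_ ?_ ?_ ?_ h
    · rintro _ ⟨a, ha, rfl⟩
      exact ⟨i, 𝟙 i, appS D (𝟙 i) U a, Ideal.mem_map_of_mem _ ha,
        appLE_appLE (pr_w c (𝟙 i)) U _ _ le_rfl _ le_rfl a⟩
    · exact ⟨i, 𝟙 i, 0, zero_mem _, map_zero _⟩
    · rintro x y - - ⟨k₁, φ₁, t₁, ht₁, rfl⟩ ⟨k₂, φ₂, t₂, ht₂, rfl⟩
      obtain ⟨m, a₁, a₂, e⟩ := IsCofiltered.cospan φ₁ φ₂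
      obtain ⟨T₁, -, hπ₁, -, hm₁⟩ := transfer (c := c) U K φ₁ a₁ (a₁ ≫ φ₁) rfl
      obtain ⟨T₂, -, hπ₂, -, hm₂⟩ := transfer (c := c) U K φ₂ a₂ (a₁ ≫ φ₁) e.symm
      exact ⟨m, a₁ ≫ φ₁, T₁ t₁ + T₂ t₂, add_mem (hm₁ _ ht₁) (hm₂ _ ht₂), by rw [map_add, hπ₁, hπ₂]⟩
    · rintro a x - ⟨k₁, φ₁, t₁, ht₁, rfl⟩
      obtain ⟨k₂, φ₂, s, hs⟩ := exists_common_lift hc hU (fun _ : Fin 1 => a)
      obtain ⟨m, a₁, a₂, e⟩ := IsCofiltered.cospan φ₁ φ₂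
      obtain ⟨T₁, -, hπ₁, -, hm₁⟩ := transfer (c := c) U K φ₁ a₁ (a₁ ≫ φ₁) rfl
      obtain ⟨T₂, -, hπ₂, -, -⟩ := transfer (c := c) U K φ₂ a₂ (a₁ ≫ φ₁) e.symm
      refine ⟨m, a₁ ≫ φ₁, T₂ (s 0) * T₁ t₁, Ideal.mul_mem_left _ _ (hm₁ _ ht₁), ?_⟩
      rw [map_mul, hπ₁, hπ₂, hs 0, smul_eq_mul]
  obtain ⟨k, φ, t, ht, htb⟩ := hP
  have h0 : (pr c k).app (D.map φ ⁻¹ᵁ U) (appS D φ U f - t) = 0 := by
    have h1 : (pr c k).appLE _ (pr c i ⁻¹ᵁ U) (π_le c φ U) (appS D φ U f - t) = 0 := by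
      rw [map_sub, htb, sub_eq_zero]
      exact appLE_appLE (pr_w c φ) U _ _ le_rfl _ le_rfl f
    have e : pr c k ⁻¹ᵁ (D.map φ ⁻¹ᵁ U) ≤ pr c i ⁻¹ᵁ U :=
      le_of_eq (congr($(pr_w c φ) ⁻¹ᵁ U))
    rw [Scheme.Hom.app_eq_appLE, ← Scheme.Hom.appLE_map (pr c k) (π_le c φ U) (homOfLE e).op,
      CommRingCat.comp_apply, h1, map_zero]
  obtain ⟨m, ψ, hm⟩ := exists_app_map_eq_zero_of_isLimit D c hc (hU.preimage (D.map φ)).isCompact _ h0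
  obtain ⟨T, hT, -, hz, hmem⟩ := transfer (c := c) U K φ ψ (ψ ≫ φ) rfl
  refine ⟨m, ψ ≫ φ, ?_⟩
  have h2 : T (appS D φ U f) = T t := by
    have := hz _ hm
    rwa [map_sub, sub_eq_zero] at this
  rw [← hT, RingHom.comp_apply, h2, hT]
  exact hmem _ ht

include hc in
/-- An inequality with a locally principal ideal sheaf descends to a stage. -/
theorem exists_stage_le (i : I) [CompactSpace (D.obj i)] (J K : (D.obj i).IdealSheafData)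
    (hJ : _root_.HTop.IsLocPrincipal J) (h : J.comap (c.π.app i) ≤ K.comap (c.π.app i)) :
    ∃ (m : I) (χ : m ⟶ i), J.comap (D.map χ) ≤ K.comap (D.map χ) := by
  classical
  have := isAffineHom_π_app D c hc
  choose U hxU f hf using hJ
  obtain ⟨s, hs⟩ := isCompact_univ.elim_finite_subcover (fun x => ((U x).1 : Set (D.obj i)))
    (fun x => (U x).1.2) (fun x _ => Set.mem_iUnion.2 ⟨x, hxU x⟩)
  have hst : ∀ x, ∃ (k : I) (φ : k ⟶ i),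
      appS D φ (U x).1 (f x) ∈ (K.ideal (U x)).map (appS D φ (U x).1) := fun x => by
    refine exists_stage_mem hc (U x).2 _ _ ?_
    let V : c.pt.affineOpens := ⟨c.π.app i ⁻¹ᵁ (U x).1, (U x).2.preimage _⟩
    have h1 := (Scheme.IdealSheafData.le_def.1 h) V
    rw [GrothLib.BlowUp.ideal_comap_eq_map J (c.π.app i) (U x) V le_rfl,
      GrothLib.BlowUp.ideal_comap_eq_map K (c.π.app i) (U x) V le_rfl, hf x] at h1
    exact h1 (Ideal.mem_map_of_mem _ (Ideal.mem_span_singleton_self _))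
  choose k φ hk using hst
  obtain ⟨m, hm⟩ := IsCofiltered.inf_objs_exists (insert (Over.mk (𝟙 i)) (s.image fun x => Over.mk (φ x)))
  refine ⟨m.left, m.hom, Scheme.IdealSheafData.le_of_iSup_eq_top
    (fun x : s => ⟨D.map m.hom ⁻¹ᵁ (U x).1, (U x).2.preimage _⟩) ?_ fun ⟨x, hx⟩ => ?_⟩
  · refine eq_top_iff.2 fun z _ => ?_
    obtain ⟨x, hx, hz⟩ := Set.mem_iUnion₂.1 (hs (Set.mem_univ (D.map m.hom z)))
    exact Opens.mem_iSup.2 ⟨⟨x, hx⟩, hz⟩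
  · let b : m ⟶ Over.mk (φ x) := (hm (Finset.mem_insert_of_mem (Finset.mem_image_of_mem _ hx))).some
    obtain ⟨T, hT, -, -, hmem⟩ := transfer (c := c) (U x).1 (K.ideal (U x)) (φ x) b.left m.hom (Over.w b)
    rw [GrothLib.BlowUp.ideal_comap_eq_map J (D.map m.hom) (U x) _ le_rfl,
      GrothLib.BlowUp.ideal_comap_eq_map K (D.map m.hom) (U x) _ le_rfl, hf x, Ideal.map_span,
      Set.image_singleton, Ideal.span_singleton_le_iff_mem]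
    show appS D m.hom (U x).1 (f x) ∈ _
    rw [← hT, RingHom.comp_apply]
    exact hmem _ (hk x)

end GrothLib.ModLim8
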