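import Groth.Agent.Lib.ModLim8.IdealStage
import Groth.Agent.Lib.AbsApprox.ImageSystem
import Groth.Agent.Lib.AbsApprox.ClosedSystem
import Groth.Agent.Lib.FgSupport6.Exists
import Groth.Agent.Lib.ModPair19.Image
import Groth.Agent.Lib.BlowUp.EffCartier

/-!
# Effective Cartier ideals descend along limits with dominant projections
-/

set_option autoImplicit false
set_option backward.isDefEq.respectTransparency false
set_option linter.style.haveILetI false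
universe u

open CategoryTheory Limits AlgebraicGeometry TopologicalSpace

namespace GrothLib.ModLim8

open GrothLib.ConsLim

variable {I : Type u} [SmallCategory I] [IsCofiltered I] {D : I ⥤ Scheme.{u}} {c : Cone D}
  [∀ (i j : I) (f : i ⟶ j), IsAffineHom (D.map f)] (hc : IsLimit c)

include hc in
/-- Membership of finitely many elements descends to a stage. -/
theorem exists_stage_map_le {i : I} {U : (D.obj i).Opens} (hU : IsAffineOpen U) (L K : Ideal Γ(D.obj i, U))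
    (hL : L.FG) (h : L.map ((pr c i).appLE U (pr c i ⁻¹ᵁ U) le_rfl).hom ≤
      K.map ((pr c i).appLE U (pr c i ⁻¹ᵁ U) le_rfl).hom) :
    ∃ (m : I) (χ : m ⟶ i), ∀ (m' : I) (ψ : m' ⟶ m), L.map (appS D (ψ ≫ χ) U) ≤ K.map (appS D (ψ ≫ χ) U) := by
  classical
  obtain ⟨G, hG⟩ := hL
  have hst : ∀ g : G, ∃ (k : I) (φ : k ⟶ i), appS D φ U g.1 ∈ K.map (appS D φ U) := fun g =>
    exists_stage_mem hc hU K g.1 (h (Ideal.mem_map_of_mem _ (hG.le (Ideal.subset_span g.2))))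
  choose k φ hk using hst
  obtain ⟨m, hm⟩ := IsCofiltered.inf_objs_exists (insert (Over.mk (𝟙 i)) (G.attach.image fun g => Over.mk (φ g)))
  refine ⟨m.left, m.hom, fun m' ψ => ?_⟩
  rw [← hG, Ideal.map_span, Ideal.span_le]
  rintro _ ⟨g, hg, rfl⟩
  let b : m ⟶ Over.mk (φ ⟨g, hg⟩) :=
    (hm (Finset.mem_insert_of_mem (Finset.mem_image_of_mem _ (Finset.mem_attach _ ⟨g, hg⟩)))).some
  have hw : (ψ ≫ b.left) ≫ φ ⟨g, hg⟩ = ψ ≫ m.hom := by
    rw [Category.assoc]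
    exact congrArg (ψ ≫ ·) (Over.w b)
  obtain ⟨T, hT, -, -, hmem⟩ := transfer (c := c) U K (φ ⟨g, hg⟩) (ψ ≫ b.left) (ψ ≫ m.hom) hw
  show appS D (ψ ≫ m.hom) U g ∈ _
  rw [← RingHom.congr_fun hT g]
  exact hmem _ (hk ⟨g, hg⟩)

include hc in
/-- **An effective Cartier ideal comes from a finite stage, as an effective Cartier ideal.** -/
theorem exists_eff_stage [∀ i, IsSchemeTheoreticallyDominant (c.π.app i)] [∀ i, CompactSpace (D.obj i)]
    [∀ i, QuasiSeparatedSpace (D.obj i)] (J : c.pt.IdealSheafData) (hJ : _root_.BlowUp.IsEffCartierIdeal J) :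
    ∃ (i : I) (L : (D.obj i).IdealSheafData), L.comap (c.π.app i) = J ∧
      ∀ (m : I) (φ : m ⟶ i), _root_.BlowUp.IsEffCartierIdeal (L.comap (D.map φ)) := by
  classical
  haveI := isAffineHom_π_app D c hc
  obtain ⟨i₁⟩ : Nonempty I := IsCofiltered.nonempty
  haveI : CompactSpace c.pt := ConsLim.compactSpace_limit D c hc i₁
  -- local equations come from stages
  have key : ∀ x : c.pt, ∃ (i : I) (U : (D.obj i).affineOpens) (s : Γ(D.obj i, U.1)), x ∈ c.π.app i ⁻¹ᵁ U.1 ∧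
      (c.π.app i).app U.1 s ∈ nonZeroDivisors Γ(c.pt, c.π.app i ⁻¹ᵁ U.1) ∧
      J.ideal ⟨c.π.app i ⁻¹ᵁ U.1, U.2.preimage _⟩ = Ideal.span {(c.π.app i).app U.1 s} := by
    intro x
    obtain ⟨W, hxW, t, ht, htW⟩ := hJ x
    obtain ⟨_, ⟨i, U, hU, rfl⟩, hxU, hle⟩ :=
      TopologicalSpace.Opens.isBasis_iff_nbhd.1 (isBasis_preimage_isAffineOpen D c hc) hxW
    obtain ⟨j, φ, b, e, hb⟩ := GrothLib.AbsApprox.exists_app_eq_of_isAffineOpen D c hc hU
      (c.pt.presheaf.map (homOfLE hle).op t)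
    let Uj : (D.obj j).affineOpens := ⟨D.map φ ⁻¹ᵁ U, hU.preimage _⟩
    let V : c.pt.affineOpens := ⟨c.π.app j ⁻¹ᵁ Uj.1, Uj.2.preimage _⟩
    have hV : V.1 ≤ W.1 := e.ge.trans hle
    have hb' : (c.π.app j).app Uj.1 b = c.pt.presheaf.map (homOfLE hV).op t := by
      have h1 := congrArg (c.pt.presheaf.map (homOfLE e.ge).op) hb
      rw [← ConcreteCategory.comp_apply, ← ConcreteCategory.comp_apply, ← Functor.map_comp, ← Functor.map_comp] at h1
      refine Eq.trans ?_ h1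
      rw [show ((eqToHom e).op ≫ (homOfLE e.ge).op) = 𝟙 _ from Subsingleton.elim _ _, CategoryTheory.Functor.map_id]
      rfl
    refine ⟨j, Uj, b, e.le hxU, ?_, ?_⟩
    · rw [hb']
      exact GrothLib.BlowUp.mem_nonZeroDivisors_of_flat _
        (GrothLib.BlowUp.flat_res (U := W) (V := V) hV) ht
    · rw [hb', ← J.map_ideal (U := V) (V := W) hV, htW, Ideal.map_span, Set.image_singleton]
      rfl
  choose i U s hxU hnzd hspan using key
  obtain ⟨t, htcov⟩ := isCompact_univ.elim_finite_subcover (fun x => ((c.π.app (i x) ⁻¹ᵁ (U x).1 : c.pt.Opens) : Set c.pt))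
    (fun x => (c.π.app (i x) ⁻¹ᵁ (U x).1).2) (fun x _ => Set.mem_iUnion.2 ⟨x, hxU x⟩)
  obtain ⟨i₀, hi₀⟩ := IsCofiltered.inf_objs_exists (t.image i)
  let a : ∀ x : t, i₀ ⟶ i x := fun x => (hi₀ (Finset.mem_image_of_mem i x.2)).some
  have : ∀ x : t, ∃ (U₀ : (D.obj i₀).affineOpens) (s₀ : Γ(D.obj i₀, U₀.1)) (e : c.π.app i₀ ⁻¹ᵁ U₀.1 = c.π.app (i x) ⁻¹ᵁ (U x).1),
      (c.π.app i₀).app U₀.1 s₀ = c.pt.presheaf.map (homOfLE e.le).op ((c.π.app (i x)).app (U x).1 (s x)) := by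
    intro x
    have e : c.π.app i₀ ⁻¹ᵁ (D.map (a x) ⁻¹ᵁ (U x).1) = c.π.app (i x) ⁻¹ᵁ (U x).1 := congr($(c.w (a x)) ⁻¹ᵁ (U x).1)
    refine ⟨⟨D.map (a x) ⁻¹ᵁ (U x).1, (U x).2.preimage _⟩, (D.map (a x)).app (U x).1 (s x), e, ?_⟩
    rw [Scheme.Hom.app_eq_appLE, Scheme.Hom.app_eq_appLE, Scheme.Hom.app_eq_appLE]
    refine (appLE_appLE (pr_w c (a x)) (U x).1 _ _ le_rfl le_rfl e.le (s x)).trans ?_
    exact congr($((Scheme.Hom.appLE_map (c.π.app (i x)) le_rfl (homOfLE e.le).op).symm) (s x))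
  choose U₀ s₀ e₀ hs₀ using this
  let π₀ := c.π.app i₀
  let V₀ : t → c.pt.affineOpens := fun x => ⟨π₀ ⁻¹ᵁ (U₀ x).1, (U₀ x).2.preimage _⟩
  have hV₀ : ∀ x : t, π₀.app (U₀ x).1 (s₀ x) ∈ nonZeroDivisors Γ(c.pt, (V₀ x).1) ∧
      J.ideal (V₀ x) = Ideal.span {π₀.app (U₀ x).1 (s₀ x)} := fun x => by
    let V' : c.pt.affineOpens := ⟨c.π.app (i x) ⁻¹ᵁ (U x).1, (U x).2.preimage _⟩
    show π₀.app (U₀ x).1 (s₀ x) ∈ _ ∧ _
    rw [show π₀.app (U₀ x).1 (s₀ x) = c.pt.presheaf.map (homOfLE (e₀ x).le).op _ from hs₀ x]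
    refine ⟨GrothLib.BlowUp.mem_nonZeroDivisors_of_flat _
      (GrothLib.BlowUp.flat_res (U := V') (V := V₀ x) (e₀ x).le) (hnzd x), ?_⟩
    rw [← J.map_ideal (U := V₀ x) (V := V') (e₀ x).le, hspan x, Ideal.map_span, Set.image_singleton]
    rfl
  -- a finitely generated model
  obtain ⟨n, Q, -, hQ⟩ := GrothLib.Nagata6.exists_finite_affines (⊤ : (D.obj i₀).Opens) isCompact_univ
  let R : t ⊕ Fin n → (D.obj i₀).affineOpens := Sum.elim U₀ Q
  let G : ∀ k, Finset Γ(D.obj i₀, (R k).1) := fun k => match k with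
    | .inl x => {s₀ x}
    | .inr _ => ∅
  obtain ⟨L, hLJ, hLfg, hGL⟩ := FgSupport6.exists_fg_le R (J.map π₀) G fun k => by
    cases k with
    | inr i => simp [G]
    | inl x =>
      intro y hy
      simp only [G, Finset.coe_singleton, Set.mem_singleton_iff] at hy
      subst hy
      show s₀ x ∈ (J.map π₀).ideal (U₀ x)
      rw [Scheme.IdealSheafData.ideal_map_of_isAffineHom, Ideal.mem_comap]
      exact (hV₀ x).2.ge (Ideal.subset_span rfl)
  have hs₀L : ∀ x, s₀ x ∈ L.ideal (U₀ x) := fun x =>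
    hGL (.inl x) (Finset.mem_coe.2 (Finset.mem_singleton_self _))
  have hcov : π₀ ⁻¹ᵁ (⨆ x : t, (U₀ x).1) = ⊤ := top_unique fun z _ => by
    obtain ⟨x, hx, hz⟩ := Set.mem_iUnion₂.1 (htcov (Set.mem_univ z))
    show π₀ z ∈ ⨆ x : t, (U₀ x).1
    exact Opens.mem_iSup.2 ⟨⟨x, hx⟩, (e₀ ⟨x, hx⟩).ge hz⟩
  have hle : L.comap π₀ ≤ J := Scheme.IdealSheafData.le_map_iff_comap_le.1 hLJ
  have heq : L.comap π₀ = J := Scheme.IdealSheafData.ext_of_iSup_eq_top V₀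
    (by show ⨆ x, π₀ ⁻¹ᵁ (U₀ x).1 = ⊤; rw [← Scheme.Hom.preimage_iSup]; exact hcov) fun x => by
      refine le_antisymm (hle _) ?_
      rw [(hV₀ x).2, GrothLib.BlowUp.ideal_comap_eq_map L π₀ (U₀ x) _ le_rfl, ← Scheme.Hom.app_eq_appLE,
        Ideal.span_singleton_le_iff_mem]
      exact Ideal.mem_map_of_mem _ (hs₀L x)
  -- local principality at a later stage
  have hst : ∀ x : t, ∃ (m : I) (χ : m ⟶ i₀), ∀ (m' : I) (ψ : m' ⟶ m),
      (L.ideal (U₀ x)).map (appS D (ψ ≫ χ) (U₀ x).1) ≤ (Ideal.span {s₀ x}).map (appS D (ψ ≫ χ) (U₀ x).1) := by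
    intro x
    refine exists_stage_map_le hc (U₀ x).2 _ _ (hLfg (.inl x)) ?_
    have h1 := Scheme.IdealSheafData.le_def.1 hle (V₀ x)
    rw [(hV₀ x).2, GrothLib.BlowUp.ideal_comap_eq_map L π₀ (U₀ x) _ le_rfl] at h1
    refine h1.trans (le_of_eq ?_)
    rw [Ideal.map_span, Set.image_singleton, Scheme.Hom.app_eq_appLE]
    rfl
  choose m χ hχ using hst
  obtain ⟨j₁, φ₁, hj₁⟩ := exists_map_eq_top D c hc (⨆ x : t, (U₀ x).1) hcov
  obtain ⟨M, hM⟩ := IsCofiltered.inf_objs_exists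
    (insert (Over.mk φ₁) (Finset.univ.image fun x : t => Over.mk (χ x)))
  let b₁ : M ⟶ Over.mk φ₁ := (hM (Finset.mem_insert_self _ _)).some
  refine ⟨M.left, L.comap (D.map M.hom), ?_, fun k φ => ?_⟩
  · rw [← Scheme.IdealSheafData.comap_comp, c.w]
    exact heq
  rw [← Scheme.IdealSheafData.comap_comp, ← D.map_comp]
  intro z
  have hz : D.map (φ ≫ M.hom) z ∈ ⨆ x : t, (U₀ x).1 := by
    have h1 : D.map (φ ≫ b₁.left) z ∈ D.map φ₁ ⁻¹ᵁ (⨆ x : t, (U₀ x).1) := by rw [hj₁]; trivial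
    change D.map φ₁ (D.map (φ ≫ b₁.left) z) ∈ (⨆ x : t, (U₀ x).1) at h1
    have h2 : (D.map (φ ≫ b₁.left) ≫ D.map φ₁) z ∈ (⨆ x : t, (U₀ x).1) := h1
    rwa [← D.map_comp, Category.assoc, show b₁.left ≫ φ₁ = M.hom from Over.w b₁] at h2
  obtain ⟨x, hzx⟩ := Opens.mem_iSup.1 hz
  let bx : M ⟶ Over.mk (χ x) := (hM (Finset.mem_insert_of_mem (Finset.mem_image_of_mem _ (Finset.mem_univ x)))).some
  have hψ : (φ ≫ bx.left) ≫ χ x = φ ≫ M.hom := by
    rw [Category.assoc]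
    exact congrArg (φ ≫ ·) (Over.w bx)
  have hxle := hχ x k (φ ≫ bx.left)
  rw [hψ] at hxle
  let Uk : (D.obj k).affineOpens := ⟨D.map (φ ≫ M.hom) ⁻¹ᵁ (U₀ x).1, (U₀ x).2.preimage _⟩
  let g : Γ(D.obj k, Uk.1) := appS D (φ ≫ M.hom) (U₀ x).1 (s₀ x)
  refine ⟨Uk, hzx, g, ?_, ?_⟩
  · have hcomp : ∀ r, (c.π.app k).appLE Uk.1 (V₀ x).1 (π_le c (φ ≫ M.hom) (U₀ x).1) (appS D (φ ≫ M.hom) (U₀ x).1 r) =
        π₀.appLE (U₀ x).1 (V₀ x).1 le_rfl r := fun r =>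
      appLE_appLE (pr_w c (φ ≫ M.hom)) (U₀ x).1 _ _ le_rfl _ le_rfl r
    have hinj : Function.Injective ((c.π.app k).appLE Uk.1 (V₀ x).1 (π_le c (φ ≫ M.hom) (U₀ x).1)).hom := by
      have hk : Function.Injective ((c.π.app k).app Uk.1).hom := by
        rw [RingHom.injective_iff_ker_eq_bot, ← Scheme.Hom.ker_apply, Scheme.Hom.ker_eq_bot,
          Scheme.IdealSheafData.ideal_bot]
        rfl
      have e : c.π.app k ⁻¹ᵁ Uk.1 = (V₀ x).1 := congr($(c.w (φ ≫ M.hom)) ⁻¹ᵁ (U₀ x).1)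
      intro p q hpq
      refine hk ?_
      have key2 : (c.π.app k).appLE Uk.1 (V₀ x).1 (π_le c (φ ≫ M.hom) (U₀ x).1) ≫
          c.pt.presheaf.map (homOfLE e.le).op = (c.π.app k).app Uk.1 := by
        refine (Scheme.Hom.appLE_map (c.π.app k) (π_le c (φ ≫ M.hom) (U₀ x).1) (homOfLE e.le).op).trans ?_
        exact (Scheme.Hom.app_eq_appLE _).symm
      have h2 := congrArg (c.pt.presheaf.map (homOfLE e.le).op) hpq
      exact ((congr($key2 p)).symm.trans h2).trans (congr($key2 q))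
    rw [mem_nonZeroDivisors_iff_right]
    intro y hy
    refine hinj ?_
    rw [map_zero]
    refine (mem_nonZeroDivisors_iff_right.mp (hV₀ x).1) _ ?_
    have h2 := congrArg ((c.π.app k).appLE Uk.1 (V₀ x).1 (π_le c (φ ≫ M.hom) (U₀ x).1)) hy
    rw [map_mul, map_zero, hcomp] at h2
    rw [Scheme.Hom.app_eq_appLE]
    exact h2
  · rw [GrothLib.BlowUp.ideal_comap_eq_map L (D.map (φ ≫ M.hom)) (U₀ x) Uk le_rfl]
    refine le_antisymm (hxle.trans (le_of_eq ?_)) ?_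
    · rw [Ideal.map_span, Set.image_singleton]
    · rw [Ideal.span_singleton_le_iff_mem]
      exact Ideal.mem_map_of_mem _ (hs₀L x)

end GrothLib.ModLim8
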