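import Groth.Prelude.Def_W4c6modpairsegaMP
import Groth.Agent.Lib.ModLim8.ModModel
import Groth.Agent.Lib.AbsApprox.RelMain
import Groth.Agent.Lib.AbsApprox.ClosedProps

/-!
# Separated quasi-compact modulus pairs are limits of pairs of finite type
-/

set_option autoImplicit false
set_option backward.isDefEq.respectTransparency false
set_option linter.style.haveILetI false
universe u

open CategoryTheory Limits AlgebraicGeometry TopologicalSpace

namespace GrothLib.ModLim8

variable {X S : Scheme.{u}} {J : Type u} [SmallCategory J] [IsCofiltered J] (D : J ⥤ Over S) (c : Cone D)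

/-- The underlying system. -/
abbrev fsys : J ⥤ Scheme.{u} := D ⋙ Over.forget S

/-- The underlying cone. -/
abbrev fcone : Cone (fsys D) := (Over.forget S).mapCone c

variable [∀ (i j : J) (a : i ⟶ j), IsAffineHom ((fsys D).map a)]

/-- The images of the vertex in the stages, over the base. -/
noncomputable def imgOver : J ⥤ Over S where
  obj i := Over.mk ((AbsApprox.imageIncl (fsys D) (fcone D c) (𝟙 _)).app i ≫ (D.obj i).hom)
  map {i j} a := Over.homMk ((AbsApprox.imageSys (fsys D) (fcone D c) (𝟙 _)).map a) (by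
    refine ((Category.assoc _ _ _).symm.trans (congrArg (· ≫ (D.obj j).hom)
      ((AbsApprox.imageIncl (fsys D) (fcone D c) (𝟙 _)).naturality a))).trans ?_
    exact (Category.assoc _ _ _).trans (congrArg (_ ≫ ·) (Over.w (D.map a))))
  map_id i := Over.OverMorphism.ext ((AbsApprox.imageSys (fsys D) (fcone D c) (𝟙 _)).map_id i)
  map_comp a b := Over.OverMorphism.ext ((AbsApprox.imageSys (fsys D) (fcone D c) (𝟙 _)).map_comp a b)

/-- The cone of images over the base. -/
noncomputable def imgOverCone : Cone (imgOver D c) where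
  pt := c.pt
  π :=
    { app := fun i => Over.homMk ((AbsApprox.imageCone (fsys D) (fcone D c) (𝟙 _)).π.app i) (by
        refine ((Category.assoc _ _ _).symm.trans (congrArg (· ≫ (D.obj i).hom)
          (AbsApprox.imageCone_π (fsys D) (fcone D c) (𝟙 _) i))).trans ?_
        rw [Category.id_comp]
        exact Over.w (c.π.app i))
      naturality := fun i j a => Over.OverMorphism.ext
        ((AbsApprox.imageCone (fsys D) (fcone D c) (𝟙 _)).π.naturality a) }

/-- The cone of images over the base is a limit. -/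
noncomputable def isLimitImgOverCone (hl : IsLimit (fcone D c))
    [∀ i, IsAffineHom ((fcone D c).π.app i)] :
    IsLimit (imgOverCone D c) := by
  have h := AbsApprox.isLimitImageCone (fsys D) (fcone D c) (𝟙 _) hl
  refine
    { lift := fun s => Over.homMk (h.lift ⟨s.pt.left, { app := fun i => (s.π.app i).left, naturality := ?_ }⟩) ?_
      fac := fun s i => Over.OverMorphism.ext (h.fac _ i)
      uniq := fun s m hm => Over.OverMorphism.ext (h.uniq
        ⟨s.pt.left, { app := fun i => (s.π.app i).left, naturality := ?_ }⟩ m.left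
        fun i => congrArg CommaMorphism.left (hm i)) }
  · exact fun i j a => congrArg CommaMorphism.left (s.π.naturality a)
  · obtain ⟨i₀⟩ : Nonempty J := IsCofiltered.nonempty
    have hw : (imgOverCone D c).π.app i₀ ≫ 𝟙 _ = (imgOverCone D c).π.app i₀ := Category.comp_id _
    refine (congrArg (h.lift _ ≫ ·) (Over.w ((imgOverCone D c).π.app i₀)).symm).trans ?_
    refine ((Category.assoc _ _ _).symm.trans (congrArg (· ≫ _) (h.fac _ i₀))).trans ?_
    exact Over.w (s.π.app i₀)
  · exact fun i j a => congrArg CommaMorphism.left (s.π.naturality a)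

theorem exists_pairs_approx [CompactSpace S] [QuasiSeparatedSpace S]
    (IS : S.IdealSheafData)
    (IX : X.IdealSheafData) (hX : _root_.BlowUp.IsEffCartierIdeal IX)
    (f : X ⟶ S) [QuasiCompact f] [IsSeparated f] (hf : _root_.ModPair.IsAmbient IX IS f) :
    ∃ (I : Type u) (_ : SmallCategory I) (_ : IsCofiltered I) (D : I ⥤ Over S) (c : Cone D)
      (_ : IsLimit c) (e : c.pt ≅ Over.mk f) (J : ∀ i, (D.obj i).left.IdealSheafData),
      (∀ i, _root_.BlowUp.IsEffCartierIdeal (J i)) ∧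
      (∀ i, LocallyOfFiniteType (D.obj i).hom ∧ QuasiCompact (D.obj i).hom ∧ IsSeparated (D.obj i).hom) ∧
      (∀ i, _root_.ModPair.IsAmbient (J i) IS (D.obj i).hom) ∧
      (∀ (i j : I) (t : i ⟶ j), IsAffineHom (D.map t).left ∧ _root_.ModPair.IsMinimal (J i) (J j) (D.map t).left ∧
          IsSchemeTheoreticallyDominant (D.map t).left) ∧
      (∀ i, IX = (J i).comap (e.inv.left ≫ (c.π.app i).left)) := by
  haveI : CompactSpace X := QuasiCompact.compactSpace_of_compactSpace f
  haveI : QuasiSeparatedSpace X := quasiSeparatedSpace_of_quasiSeparated f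
  obtain ⟨I₀, _, _, _, D₀, π₀, hl₀, h1, h2, h3⟩ := AbsApprox.exists_rel_approx f
  -- eventually separated
  haveI : ∀ (i j : I₀ᵒᵖ) (a : i ⟶ j), IsAffineHom ((D₀ ⋙ Over.forget S).map a) :=
    fun i j a => h2 i j a
  haveI : ∀ i, CompactSpace ↥((D₀ ⋙ Over.forget S).obj i) := fun i => (h1 i).2.2.2.1
  haveI : ∀ i, QuasiSeparatedSpace ↥((D₀ ⋙ Over.forget S).obj i) := fun i => (h1 i).2.2.2.2
  obtain ⟨i₀⟩ : Nonempty I₀ᵒᵖ := inferInstance
  haveI : IsSeparated (((Over.forget S).mapCone (Cone.mk (Over.mk f) π₀)).π.app i₀ ≫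
      (AbsApprox.overHom D₀).app i₀) := by
    show IsSeparated ((π₀.app i₀).left ≫ (D₀.obj i₀).hom)
    rw [Over.w (π₀.app i₀)]
    exact ‹IsSeparated f›
  obtain ⟨k₁, hk₁⟩ := GrothLib.LimDesc.eventually_isSeparated (D₀ ⋙ Over.forget S)
    (isLimitOfPreserves (Over.forget S) hl₀) (AbsApprox.overHom D₀) i₀
  obtain ⟨I₁, _, _, _, ρ₁, ⟨hl₁⟩, hρ₁⟩ := AbsApprox.exists_tail D₀ _ hl₀ k₁
  let D₁ := ρ₁ ⋙ D₀
  let c₁ : Cone D₁ := (Cone.mk (Over.mk f) π₀).whisker ρ₁
  haveI : ∀ (i j : I₁ᵒᵖ) (a : i ⟶ j), IsAffineHom ((fsys D₁).map a) := fun i j a => h2 _ _ _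
  haveI : ∀ i, IsAffineHom ((fcone D₁ c₁).π.app i) := fun i => h3 _
  -- the images
  let E := imgOver D₁ c₁
  let cE := imgOverCone D₁ c₁
  have hlE : IsLimit cE := isLimitImgOverCone D₁ c₁ (isLimitOfPreserves (Over.forget S) hl₁)
  have hprop : ∀ i, LocallyOfFiniteType (E.obj i).hom ∧ QuasiCompact (E.obj i).hom ∧
      IsSeparated (E.obj i).hom := fun i => by
    obtain ⟨a, b, -, -, -⟩ := h1 (ρ₁.obj i)
    haveI := a
    haveI := b
    haveI : IsSeparated (D₁.obj i).hom := hk₁ _ (hρ₁ i).some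
    haveI : LocallyOfFiniteType (D₁.obj i).hom := inferInstanceAs (LocallyOfFiniteType (D₀.obj (ρ₁.obj i)).hom)
    haveI : QuasiCompact (D₁.obj i).hom := b
    let ιi := (AbsApprox.imageIncl (fsys D₁) (fcone D₁ c₁) (𝟙 _)).app i
    exact ⟨(inferInstance : LocallyOfFiniteType (ιi ≫ (D₁.obj i).hom)),
      (inferInstance : QuasiCompact (ιi ≫ (D₁.obj i).hom)), (inferInstance : IsSeparated (ιi ≫ (D₁.obj i).hom))⟩
  let G := fsys E
  let cG : Cone G := fcone E cE
  have hlG : IsLimit cG := isLimitOfPreserves (Over.forget S) hlE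
  haveI : ∀ (i j : I₁ᵒᵖ) (a : i ⟶ j), IsAffineHom (G.map a) :=
    fun i j a => AbsApprox.isAffineHom_imageSys (fsys D₁) (fcone D₁ c₁) (𝟙 _) a
  haveI hπdom : ∀ i, IsSchemeTheoreticallyDominant (cG.π.app i) := fun i => by
    haveI hqc : QuasiCompact (𝟙 (fcone D₁ c₁).pt ≫ (fcone D₁ c₁).π.app i) := by
      haveI : IsAffineHom ((fcone D₁ c₁).π.app i) := inferInstance
      exact MorphismProperty.comp_mem _ (𝟙 (fcone D₁ c₁).pt) ((fcone D₁ c₁).π.app i) inferInstance inferInstance
    exact @GrothLib.Chow.stdDominant_toImage _ _ _ hqc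
  haveI : ∀ i, CompactSpace ↥(G.obj i) := fun i => by
    haveI := (hprop i).2.1
    exact QuasiCompact.compactSpace_of_compactSpace (E.obj i).hom
  haveI : ∀ i, QuasiSeparatedSpace ↥(G.obj i) := fun i => by
    haveI := (hprop i).2.2
    exact quasiSeparatedSpace_of_quasiSeparated (E.obj i).hom
  obtain ⟨i₁, L, hL, hLeff⟩ := exists_eff_stage hlG IX hX
  have hLlp : _root_.HTop.IsLocPrincipal L := by
    refine GrothLib.ModPair19.isLocPrincipal_of_eff ?_
    have := hLeff i₁ (𝟙 i₁)
    rwa [G.map_id, Scheme.IdealSheafData.comap_id] at this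
  obtain ⟨m, χ, hχ⟩ := exists_stage_le hlG i₁ L (IS.comap (E.obj i₁).hom) hLlp (by
    rw [hL, ← Scheme.IdealSheafData.comap_comp]
    exact hf.trans (le_of_eq (congrArg IS.comap (Over.w (cE.π.app i₁)).symm)))
  rw [← Scheme.IdealSheafData.comap_comp, show G.map χ ≫ (E.obj i₁).hom = (E.obj m).hom from Over.w (E.map χ)] at hχ
  obtain ⟨I₂, _, _, _, ρ₂, ⟨hl₂⟩, hρ₂⟩ := AbsApprox.exists_tail E _ hlE m
  let a : ∀ i, ρ₂.obj i ⟶ m := fun i => (hρ₂ i).some
  refine ⟨I₂ᵒᵖ, inferInstance, inferInstance, ρ₂ ⋙ E, cE.whisker ρ₂, hl₂, Iso.refl _,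
    fun i => L.comap (G.map (a i ≫ χ)), fun i => hLeff _ _, fun i => hprop _, fun i => ?_,
    fun i j t => ⟨inferInstanceAs (IsAffineHom (G.map (ρ₂.map t))), ?_, ?_⟩, fun i => ?_⟩
  · show L.comap (G.map (a i ≫ χ)) ≤ IS.comap (E.obj (ρ₂.obj i)).hom
    rw [G.map_comp, Scheme.IdealSheafData.comap_comp,
      show (E.obj (ρ₂.obj i)).hom = G.map (a i) ≫ (E.obj m).hom from (Over.w (E.map (a i))).symm,
      Scheme.IdealSheafData.comap_comp]
    exact Scheme.IdealSheafData.comap_mono _ hχ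
  · show L.comap (G.map (a i ≫ χ)) = (L.comap (G.map (a j ≫ χ))).comap (G.map (ρ₂.map t))
    rw [← Scheme.IdealSheafData.comap_comp, ← G.map_comp]
    congr 2
  · show IsSchemeTheoreticallyDominant (G.map (ρ₂.map t))
    haveI : IsSchemeTheoreticallyDominant (cG.π.app (ρ₂.obj i) ≫ G.map (ρ₂.map t)) := by
      rw [cG.w]; infer_instance
    exact GrothLib.ModPair19.dominant_of_comp (cG.π.app (ρ₂.obj i)) _
  · show IX = (L.comap (G.map (a i ≫ χ))).comap (𝟙 _ ≫ cG.π.app (ρ₂.obj i))
    rw [Category.id_comp, ← Scheme.IdealSheafData.comap_comp, cG.w, hL]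

end GrothLib.ModLim8
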