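import Groth.Agent.S18744
import Groth.Agent.Lib.LimStage.Exists
import Groth.Prelude.Def_W4c6modpairsegaMP
import Mathlib.CategoryTheory.Limits.Constructions.Over.Connected
import Mathlib.CategoryTheory.Comma.Over.Basic

/-!
# Limits of modulus pairs over a pair, on total spaces
-/

set_option autoImplicit false
set_option backward.isDefEq.respectTransparency false
universe u

open CategoryTheory Limits AlgebraicGeometry

namespace GrothLib.ModLim8

open ModPair

variable {S : Pair.{u}} {I : Type u} [SmallCategory I] [IsCofiltered I] (D : I ⥤ Over S) (c : Cone D)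
  (hc : IsLimit c) [∀ (i j : I) (t : i ⟶ j), IsAffineHom (D.map t).left.hom]
  (hmin : ∀ (i j : I) (t : i ⟶ j), IsMinimal (D.obj i).left.mod (D.obj j).left.mod (D.map t).left.hom)

/-- The system of pairs. -/
abbrev pairs : I ⥤ Pair.{u} := D ⋙ Over.forget S

/-- The system of total spaces. -/
abbrev totals : I ⥤ Scheme.{u} := pairs D ⋙ Pair.forget

include hc hmin in
/-- The total space of a limit of pairs with minimal affine transitions is the limit of the total
spaces, and its modulus is pulled back from every stage. -/
theorem totals_isLimit :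
    Nonempty (IsLimit ((Over.forget S ⋙ Pair.forget).mapCone c)) ∧
      ∀ i, c.pt.left.mod = (D.obj i).left.mod.comap (c.π.app i).left.hom := by
  classical
  haveI : ∀ (i j : I) (t : i ⟶ j), IsAffineHom ((totals D).map t) := fun i j t =>
    inferInstanceAs (IsAffineHom (D.map t).left.hom)
  haveI := GrothLib.LimStage.hasLimit_affineTransition (totals D)
  let L := limit (totals D)
  have hw : ∀ {i k : I} (t : k ⟶ i), limit.π (totals D) k ≫ (D.map t).left.hom = limit.π (totals D) i :=
    fun t => limit.w (totals D) t
  obtain ⟨i₀⟩ := IsCofiltered.nonempty (C := I)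
  let IL := (D.obj i₀).left.mod.comap (limit.π (totals D) i₀)
  have hIL : ∀ i, IL = (D.obj i).left.mod.comap (limit.π (totals D) i) := fun i => by
    let k := IsCofiltered.min i i₀
    show (D.obj i₀).left.mod.comap (limit.π (totals D) i₀) = _
    rw [← hw (IsCofiltered.minToLeft i i₀), ← hw (IsCofiltered.minToRight i i₀),
      Scheme.IdealSheafData.comap_comp, Scheme.IdealSheafData.comap_comp,
      ← show _ = _ from hmin _ _ (IsCofiltered.minToLeft i i₀),
      ← show _ = _ from hmin _ _ (IsCofiltered.minToRight i i₀)]
  have hLeff : BlowUp.IsEffCartierIdeal IL :=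
    Groth.Agent.S18744.result (totals D) (limit.cone (totals D)) (limit.isLimit _)
      (fun i => (D.obj i).left.mod) (fun i => (D.obj i).left.isEffCartier) hmin i₀
  let pL : ∀ i, Pair.mk L IL hLeff ⟶ (D.obj i).left := fun i => ⟨limit.π (totals D) i, (hIL i).le⟩
  have hov : ∀ i, limit.π (totals D) i ≫ (D.obj i).hom.hom = limit.π (totals D) i₀ ≫ (D.obj i₀).hom.hom := by
    intro i
    have h : ∀ {i k : I} (t : k ⟶ i), limit.π (totals D) k ≫ (D.obj k).hom.hom =
        limit.π (totals D) i ≫ (D.obj i).hom.hom := fun {i k} t => by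
      rw [← hw t, Category.assoc]
      exact congrArg (limit.π (totals D) k ≫ ·) (congrArg Pair.Hom.hom (Over.w (D.map t))).symm
    rw [← h (IsCofiltered.minToLeft i i₀), h (IsCofiltered.minToRight i i₀)]
  let cL : Cone D :=
    { pt := Over.mk (pL i₀ ≫ (D.obj i₀).hom)
      π :=
        { app := fun i => Over.homMk (pL i) (Pair.Hom.ext (hov i))
          naturality := fun i j t => Over.OverMorphism.ext (Pair.Hom.ext
            ((Category.id_comp _).trans (hw t).symm)) } }
  have hcL : IsLimit cL :=
    { lift := fun s => Over.homMk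
        ⟨limit.lift (totals D) ((Over.forget S ⋙ Pair.forget).mapCone s), by
          show _ ≤ _
          show s.pt.left.mod ≤ IL.comap _
          rw [hIL i₀, ← Scheme.IdealSheafData.comap_comp, limit.lift_π]
          exact (s.π.app i₀).left.cond⟩
        (Pair.Hom.ext (by
          show limit.lift _ _ ≫ limit.π (totals D) i₀ ≫ (D.obj i₀).hom.hom = _
          rw [limit.lift_π_assoc]
          exact congrArg Pair.Hom.hom (Over.w (s.π.app i₀))))
      fac := fun s i => Over.OverMorphism.ext (Pair.Hom.ext (limit.lift_π _ i))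
      uniq := fun s m hm => Over.OverMorphism.ext (Pair.Hom.ext (limit.hom_ext fun i => by
        show m.left.hom ≫ limit.π (totals D) i =
          limit.lift (totals D) ((Over.forget S ⋙ Pair.forget).mapCone s) ≫ limit.π (totals D) i
        rw [limit.lift_π]
        exact congrArg (fun f => f.left.hom) (hm i))) }
  let e := IsLimit.uniqueUpToIso hcL hc
  refine ⟨⟨IsLimit.ofIsoLimit (limit.isLimit (totals D))
    ((show limit.cone (totals D) ≅ (Over.forget S ⋙ Pair.forget).mapCone cL from
      Cone.ext (Iso.refl _) (fun j => (Category.id_comp _).symm)) ≪≫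
      (Cone.functoriality D (Over.forget S ⋙ Pair.forget)).mapIso e)⟩, fun i => ?_⟩
  refine le_antisymm (c.π.app i).left.cond ?_
  have e1 : e.inv.hom ≫ cL.π.app i = c.π.app i := e.inv.w i
  have e3 : e.inv.hom ≫ e.hom.hom = 𝟙 c.pt := congrArg ConeMorphism.hom e.inv_hom_id
  have h2 : IL ≤ c.pt.left.mod.comap e.hom.hom.left.hom := e.hom.hom.left.cond
  have h3 := Scheme.IdealSheafData.comap_mono e.inv.hom.left.hom h2
  dsimp only at h3
  rw [hIL i, ← Scheme.IdealSheafData.comap_comp, ← Scheme.IdealSheafData.comap_comp] at h3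
  rw [← e1]
  refine h3.trans (le_of_eq ?_)
  have e4 : e.inv.hom.left.hom ≫ e.hom.hom.left.hom = 𝟙 _ := congrArg (fun f => f.left.hom) e3
  rw [e4, Scheme.IdealSheafData.comap_id]

end GrothLib.ModLim8
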