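import Groth.Agent.Lib.ModLim8.Closure
import Groth.Agent.Lib.LimDesc.Basic
import Groth.Agent.Lib.LimDesc.Local
import Groth.Agent.Lib.ModPair19.Closure
import Groth.Agent.S18735
import Mathlib.AlgebraicGeometry.Morphisms.SchemeTheoreticallyDominant
import Groth.Prelude.Def_W4c6modpairsegaMP

/-!
# Pulling a system of modulus pairs back along an admissible blow-up of a stage
-/

set_option autoImplicit false
set_option backward.isDefEq.respectTransparency false
universe u
set_option maxHeartbeats 400000

open CategoryTheory Limits AlgebraicGeometry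

noncomputable section

namespace GrothLib.ModLim8

open ModPair GrothLib.LimDesc

/-- The interior of a product pulls back to the interior of a product. -/
theorem preimage_prodInterior {X T T' S A : Scheme.{u}} (f : X ⟶ S) (g : T ⟶ S) (I₁ : X.IdealSheafData)
    (J₁ : T.IdealSheafData) (J₂ : T'.IdealSheafData) (t : T' ⟶ T) (h : J₂ = J₁.comap t)
    (a : A ⟶ X) (b : A ⟶ T') (m : A ⟶ pullback f g) (h₁ : m ≫ pullback.fst f g = a)
    (h₂ : m ≫ pullback.snd f g = b ≫ t) :
    m ⁻¹ᵁ prodInterior f g I₁ J₁ = a ⁻¹ᵁ interior I₁ ⊓ b ⁻¹ᵁ interior J₂ := by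
  subst h
  show (m ⁻¹ᵁ (pullback.fst f g ⁻¹ᵁ interior I₁)) ⊓ (m ⁻¹ᵁ (pullback.snd f g ⁻¹ᵁ interior J₁)) = _
  rw [← Scheme.Hom.comp_preimage, ← Scheme.Hom.comp_preimage, h₁, h₂, Scheme.Hom.comp_preimage,
    GrothLib.ModPair19.interior_comap]

variable {I : Type u} [SmallCategory I]

/-- A transition of closures is dominant as soon as it is so on the opens. -/
theorem dominant_trans {D : I ⥤ Scheme.{u}} (O : CompatOpens D) {i j : I} (t : j ⟶ i)
    [QuasiCompact (O.op i).ι] [IsSchemeTheoreticallyDominant (D.map t ∣_ O.op i)] :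
    IsSchemeTheoreticallyDominant (O.trans t) := by
  haveI := GrothLib.Chow.stdDominant_toImage (O.op i).ι
  let x := (D.obj j).homOfLE (O.compat i j t).le ≫ (O.op j).ι.toImage
  have hx : x ≫ O.trans t = (D.map t ∣_ O.op i) ≫ (O.op i).ι.toImage := by
    rw [← cancel_mono (O.op i).ι.imageι, Category.assoc, Category.assoc, Category.assoc,
      O.trans_imageι, Scheme.Hom.toImage_imageι_assoc, Scheme.Hom.toImage_imageι, morphismRestrict_ι,
      Scheme.homOfLE_ι_assoc]
  haveI : IsSchemeTheoreticallyDominant (x ≫ O.trans t) := by rw [hx]; infer_instance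
  exact ⟨le_bot_iff.1 ((Scheme.Hom.le_ker_comp x (O.trans t)).trans
    (Scheme.Hom.ker_eq_bot (x ≫ O.trans t)).le)⟩

/-- A cofiltered limit of quasi-compact quasi-separated modulus pairs along affine minimal
transitions, given by total spaces and a minimal cone. -/
structure MinSystem (P : I ⥤ Pair.{u}) (p : Cone P) : Prop where
  affine : ∀ (i j : I) (t : i ⟶ j), IsAffineHom (P.map t).hom
  minimal : ∀ (i j : I) (t : i ⟶ j), IsMinimal (P.obj i).mod (P.obj j).mod (P.map t).hom
  minimal_π : ∀ i, IsMinimal p.pt.mod (P.obj i).mod (p.π.app i).hom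
  compact : ∀ i, CompactSpace (P.obj i).total
  qs : ∀ i, QuasiSeparatedSpace (P.obj i).total
  limit : Nonempty (IsLimit (Pair.forget.mapCone p))

variable {P : I ⥤ Pair.{u}} {p : Cone P} (hP : MinSystem P p) {i : I} {R : Pair.{u}}
  (r : R ⟶ P.obj i) (hr : Pair.admBlowup.{u} r)

/-- The base changes of `R`. -/
abbrev pullDiag : Over i ⥤ Scheme.{u} := diag (P ⋙ Pair.forget) i r.hom

/-- The interiors of the products. -/
def pullOpens : CompatOpens (pullDiag r) where
  op j := prodInterior r.hom (P.map j.hom).hom R.mod (P.obj j.left).mod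
  compat k j ψ :=
    preimage_prodInterior r.hom (P.map k.hom).hom R.mod (P.obj k.left).mod (P.obj j.left).mod
      (P.map ψ.left).hom (hP.minimal _ _ ψ.left) (pullback.fst r.hom (P.map j.hom).hom)
      (pullback.snd r.hom (P.map j.hom).hom) ((pullDiag r).map ψ)
      (map_fst (P ⋙ Pair.forget) i r.hom ψ) (map_snd (P ⋙ Pair.forget) i r.hom ψ)

/-- The modulus on a stage of the pullback. -/
abbrev pullMod (j : Over i) : ((pullOpens hP r).op j).ι.image.IdealSheafData :=
  (P.obj j.left).mod.comap (mprodι r.hom (P.map j.hom).hom R.mod (P.obj j.left).mod ≫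
    pullback.snd r.hom (P.map j.hom).hom)

theorem eff_pullMod (j : Over i) : BlowUp.IsEffCartierIdeal (pullMod hP r j) :=
  (GrothLib.ModPair19.eff_mprod r.hom (P.map j.hom).hom R.mod (P.obj j.left).mod R.isEffCartier
    (P.obj j.left).isEffCartier).2

theorem trans_snd {k j : Over i} (ψ : j ⟶ k) :
    (pullOpens hP r).trans ψ ≫ mprodι r.hom (P.map k.hom).hom R.mod (P.obj k.left).mod ≫
        pullback.snd r.hom (P.map k.hom).hom =
      (mprodι r.hom (P.map j.hom).hom R.mod (P.obj j.left).mod ≫ pullback.snd r.hom (P.map j.hom).hom) ≫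
        (P.map ψ.left).hom := by
  erw [(pullOpens hP r).trans_imageι_assoc ψ, map_snd (P ⋙ Pair.forget) i r.hom ψ]
  rw [Category.assoc]
  rfl

theorem trans_fst {k j : Over i} (ψ : j ⟶ k) :
    (pullOpens hP r).trans ψ ≫ mprodι r.hom (P.map k.hom).hom R.mod (P.obj k.left).mod ≫
        pullback.fst r.hom (P.map k.hom).hom =
      mprodι r.hom (P.map j.hom).hom R.mod (P.obj j.left).mod ≫ pullback.fst r.hom (P.map j.hom).hom := by
  erw [(pullOpens hP r).trans_imageι_assoc ψ, map_fst (P ⋙ Pair.forget) i r.hom ψ]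
  rfl

/-- The pullback system of pairs. -/
def pullSys : Over i ⥤ Pair.{u} where
  obj j := ⟨((pullOpens hP r).op j).ι.image, pullMod hP r j, eff_pullMod hP r j⟩
  map {j k} ψ := ⟨(pullOpens hP r).trans ψ, by
    show pullMod hP r j ≤ (pullMod hP r k).comap _
    rw [← Scheme.IdealSheafData.comap_comp]
    erw [trans_snd hP r ψ]
    rw [Scheme.IdealSheafData.comap_comp _ _ (P.map ψ.left).hom, ← show _ = _ from hP.minimal _ _ ψ.left]⟩
  map_id j := Pair.Hom.ext ((pullOpens hP r).closure.map_id j)
  map_comp a b := Pair.Hom.ext ((pullOpens hP r).closure.map_comp a b)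

/-- The admissible blow-up down to the original system. -/
def pullDown (j : Over i) : (pullSys hP r).obj j ⟶ P.obj j.left :=
  ⟨mprodι r.hom (P.map j.hom).hom R.mod (P.obj j.left).mod ≫ pullback.snd r.hom (P.map j.hom).hom, le_rfl⟩

theorem pullDown_naturality {k j : Over i} (ψ : j ⟶ k) :
    (pullSys hP r).map ψ ≫ pullDown hP r k = pullDown hP r j ≫ P.map ψ.left :=
  Pair.Hom.ext (trans_snd hP r ψ)

include hr in
theorem admBlowup_pullDown (j : Over i) : Pair.admBlowup.{u} (pullDown hP r j) :=
  (Groth.Agent.S18735.result (P.obj i).mod (P.obj j.left).mod R.mod (P.obj i).isEffCartier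
    (P.obj j.left).isEffCartier R.isEffCartier (P.map j.hom).hom (P.map j.hom).cond r.hom hr).2.1

/-- The map to `R`. -/
def pullTo (j : Over i) : (pullSys hP r).obj j ⟶ R :=
  ⟨mprodι r.hom (P.map j.hom).hom R.mod (P.obj j.left).mod ≫ pullback.fst r.hom (P.map j.hom).hom,
    (Groth.Agent.S18735.result (P.obj i).mod (P.obj j.left).mod R.mod (P.obj i).isEffCartier
      (P.obj j.left).isEffCartier R.isEffCartier (P.map j.hom).hom (P.map j.hom).cond r.hom hr).2.2⟩

theorem pullTo_naturality {k j : Over i} (ψ : j ⟶ k) :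
    (pullSys hP r).map ψ ≫ pullTo hP r hr k = pullTo hP r hr j :=
  Pair.Hom.ext (trans_fst hP r ψ)

theorem pullTo_comp (j : Over i) : pullTo hP r hr j ≫ r = pullDown hP r j ≫ P.map j.hom := by
  refine Pair.Hom.ext ?_
  show (mprodι _ _ _ _ ≫ pullback.fst _ _) ≫ r.hom = (mprodι _ _ _ _ ≫ pullback.snd _ _) ≫ (P.map j.hom).hom
  rw [Category.assoc, Category.assoc, pullback.condition]

/-- The interior in the limit. -/
abbrev pullOpenLim : (cone (P ⋙ Pair.forget) i r.hom (c := Pair.forget.mapCone p)
    (IsPullback.of_hasPullback r.hom (p.π.app i).hom)).pt.Opens :=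
  prodInterior r.hom (p.π.app i).hom R.mod p.pt.mod

include hP in
theorem preimage_pullOpens (j : Over i) :
    (cone (P ⋙ Pair.forget) i r.hom (c := Pair.forget.mapCone p)
      (IsPullback.of_hasPullback r.hom (p.π.app i).hom)).π.app j ⁻¹ᵁ (pullOpens hP r).op j =
      pullOpenLim r (p := p) :=
  preimage_prodInterior r.hom (P.map j.hom).hom R.mod (P.obj j.left).mod p.pt.mod
    (p.π.app j.left).hom (hP.minimal_π j.left) (pullback.fst r.hom (p.π.app i).hom)
    (pullback.snd r.hom (p.π.app i).hom) _
    (π_fst (P ⋙ Pair.forget) i r.hom _ j) (π_snd (P ⋙ Pair.forget) i r.hom _ j)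

/-- The limit of the pullback system. -/
def pullPt : Pair.{u} :=
  ⟨mprod r.hom (p.π.app i).hom R.mod p.pt.mod,
    p.pt.mod.comap (mprodι r.hom (p.π.app i).hom R.mod p.pt.mod ≫ pullback.snd r.hom (p.π.app i).hom),
    (GrothLib.ModPair19.eff_mprod r.hom (p.π.app i).hom R.mod p.pt.mod R.isEffCartier p.pt.isEffCartier).2⟩

/-- The admissible blow-up of the limit. -/
def pullPtDown : pullPt r (p := p) ⟶ p.pt :=
  ⟨mprodι r.hom (p.π.app i).hom R.mod p.pt.mod ≫ pullback.snd r.hom (p.π.app i).hom, le_rfl⟩

include hr in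
theorem admBlowup_pullPtDown : Pair.admBlowup.{u} (pullPtDown r (p := p)) :=
  (Groth.Agent.S18735.result (P.obj i).mod p.pt.mod R.mod (P.obj i).isEffCartier
    p.pt.isEffCartier R.isEffCartier (p.π.app i).hom (p.π.app i).cond r.hom hr).2.1

theorem toClosure_snd (j : Over i) :
    (pullOpens hP r).toClosure _ (preimage_pullOpens hP r) j ≫
      mprodι r.hom (P.map j.hom).hom R.mod (P.obj j.left).mod ≫ pullback.snd r.hom (P.map j.hom).hom =
    (mprodι r.hom (p.π.app i).hom R.mod p.pt.mod ≫ pullback.snd r.hom (p.π.app i).hom) ≫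
      (p.π.app j.left).hom := by
  erw [(pullOpens hP r).toClosure_imageι_assoc _ (preimage_pullOpens hP r) j,
    π_snd (P ⋙ Pair.forget) i r.hom (c := Pair.forget.mapCone p) (IsPullback.of_hasPullback r.hom (p.π.app i).hom) j]
  rw [Category.assoc]
  rfl

/-- The cone over the pullback system. -/
def pullCone : Cone (pullSys hP r) where
  pt := pullPt r (p := p)
  π :=
    { app := fun j => ⟨(pullOpens hP r).toClosure _ (preimage_pullOpens hP r) j, by
        show _ ≤ (pullMod hP r j).comap _
        rw [← Scheme.IdealSheafData.comap_comp]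
        erw [toClosure_snd hP r j]
        rw [Scheme.IdealSheafData.comap_comp _ _ (p.π.app j.left).hom,
          ← show _ = _ from hP.minimal_π j.left]
        exact le_rfl⟩
      naturality := fun j k ψ => Pair.Hom.ext
        ((Category.id_comp _).trans ((pullOpens hP r).toClosure_trans _ (preimage_pullOpens hP r) ψ).symm) }

theorem pullCone_down (j : Over i) :
    (pullCone hP r).π.app j ≫ pullDown hP r j = pullPtDown r ≫ p.π.app j.left :=
  Pair.Hom.ext (toClosure_snd hP r j)

theorem pullCone_to (j : Over i) :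
    ((pullCone hP r).π.app j ≫ pullTo hP r hr j).hom =
      mprodι r.hom (p.π.app i).hom R.mod p.pt.mod ≫ pullback.fst r.hom (p.π.app i).hom := by
  show (pullOpens hP r).toClosure _ (preimage_pullOpens hP r) j ≫
      mprodι r.hom (P.map j.hom).hom R.mod (P.obj j.left).mod ≫ pullback.fst r.hom (P.map j.hom).hom = _
  erw [(pullOpens hP r).toClosure_imageι_assoc _ (preimage_pullOpens hP r) j,
    π_fst (P ⋙ Pair.forget) i r.hom (c := Pair.forget.mapCone p) (IsPullback.of_hasPullback r.hom (p.π.app i).hom) j]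

theorem quasiCompact_pullOpens (j : Over i) : QuasiCompact ((pullOpens hP r).op j).ι := by
  haveI : IsAffineHom ((pullOpens hP r).op j).ι := by
    show IsAffineHom (prodInterior r.hom (P.map j.hom).hom R.mod (P.obj j.left).mod).ι
    rw [GrothLib.ModPair19.prodInterior_eq]
    exact GrothLib.ABU25.isAffineHom_awayFrom _ (GrothLib.ModPair19.isLocPrincipal_mul
      (GrothLib.ModPair19.isLocPrincipal_comap (GrothLib.ModPair19.isLocPrincipal_of_eff R.isEffCartier) _)
      (GrothLib.ModPair19.isLocPrincipal_comap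
        (GrothLib.ModPair19.isLocPrincipal_of_eff (P.obj j.left).isEffCartier) _))
  infer_instance

variable [IsCofiltered I]

include hr in
/-- The pullback system is again such a system. -/
theorem minSystem_pull : MinSystem (pullSys hP r) (pullCone hP r) := by
  haveI : ∀ (j k : I) (t : j ⟶ k), IsAffineHom ((P ⋙ Pair.forget).map t) := hP.affine
  haveI : CompactSpace (P.obj i).total := hP.compact i
  haveI : QuasiSeparatedSpace (P.obj i).total := hP.qs i
  haveI : IsProper r.hom := hr.2.1
  haveI : CompactSpace R.total := QuasiCompact.compactSpace_of_compactSpace r.hom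
  haveI : QuasiSeparatedSpace R.total := quasiSeparatedSpace_of_quasiSeparated r.hom
  haveI : ∀ (j k : Over i) (t : j ⟶ k), IsAffineHom ((pullDiag r).map t) := fun j k t =>
    GrothLib.LimDesc.isAffineHom_map (P ⋙ Pair.forget) i r.hom t
  haveI hc1 : ∀ j, CompactSpace ((pullDiag r).obj j) := fun j => compactSpace_obj (P ⋙ Pair.forget) i r.hom j
  haveI hq1 : ∀ j, QuasiSeparatedSpace ((pullDiag r).obj j) := fun j =>
    quasiSeparatedSpace_obj (P ⋙ Pair.forget) i r.hom j
  haveI hqc : ∀ j, QuasiCompact ((pullOpens hP r).op j).ι := quasiCompact_pullOpens hP r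
  refine ⟨fun j k t => (pullOpens hP r).isAffineHom_map t, fun j k t => ?_, fun j => ?_, fun j => ?_,
    fun j => ?_, ?_⟩
  · show pullMod hP r j = (pullMod hP r k).comap ((pullOpens hP r).trans t)
    rw [← Scheme.IdealSheafData.comap_comp]
    erw [trans_snd hP r t]
    rw [Scheme.IdealSheafData.comap_comp _ _ (P.map t.left).hom, ← show _ = _ from hP.minimal _ _ t.left]
  · refine le_antisymm ((pullCone hP r).π.app j).cond ?_
    show (pullMod hP r j).comap ((pullOpens hP r).toClosure _ (preimage_pullOpens hP r) j) ≤ _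
    rw [← Scheme.IdealSheafData.comap_comp]
    erw [toClosure_snd hP r j]
    rw [Scheme.IdealSheafData.comap_comp _ _ (p.π.app j.left).hom, ← show _ = _ from hP.minimal_π j.left]
    exact le_rfl
  · exact QuasiCompact.compactSpace_of_compactSpace ((pullOpens hP r).op j).ι.imageι
  · exact quasiSeparatedSpace_of_quasiSeparated ((pullOpens hP r).op j).ι.imageι
  · obtain ⟨hl⟩ := hP.limit
    exact ⟨IsLimit.ofIsoLimit ((pullOpens hP r).isLimitClosureCone _ (preimage_pullOpens hP r)
      (isLimitCone (P ⋙ Pair.forget) i r.hom (IsPullback.of_hasPullback r.hom (p.π.app i).hom) hl))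
      (Cone.ext (Iso.refl _) fun j => (Category.id_comp _).symm)⟩

include hP hr in
/-- Dominant transitions pull back to dominant transitions. -/
theorem dominant_pullSys (hd : ∀ (a b : I) (t : a ⟶ b), IsSchemeTheoreticallyDominant (P.map t).hom)
    {j k : Over i} (ψ : j ⟶ k) : IsSchemeTheoreticallyDominant ((pullSys hP r).map ψ).hom := by
  haveI := hP.affine j.left k.left ψ.left
  haveI := hd j.left k.left ψ.left
  let U := interior (P.obj k.left).mod
  let q := pullback.snd r.hom (P.map k.hom).hom
  -- over the interior the projections are isomorphisms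
  have hOk : (pullOpens hP r).op k = q ⁻¹ᵁ U := by
    refine le_antisymm inf_le_right (le_inf ?_ le_rfl)
    rw [show R.mod = (P.obj i).mod.comap r.hom from hr.1, GrothLib.ModPair19.interior_comap,
      ← Scheme.Hom.comp_preimage, pullback.condition, Scheme.Hom.comp_preimage]
    exact q.preimage_mono (GrothLib.ModPair19.interior_le_of_isAmbient (P.map k.hom).cond)
  haveI : IsIso (q ∣_ U) := by
    rw [show q = (pullbackSymmetry r.hom (P.map k.hom).hom).hom ≫ pullback.fst (P.map k.hom).hom r.hom from
      (pullbackSymmetry_hom_comp_fst _ _).symm, morphismRestrict_comp]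
    haveI : IsIso (r.hom ∣_ interior (P.obj i).mod) := hr.2.2
    exact IsIso.comp_isIso'
      (IsZariskiLocalAtTarget.restrict (P := MorphismProperty.isomorphisms Scheme.{u})
        (inferInstanceAs (IsIso (pullbackSymmetry r.hom (P.map k.hom).hom).hom)) _)
      (GrothLib.ModPair19.isIso_pullback_fst_restrict _ _
        (GrothLib.ModPair19.interior_le_of_isAmbient (P.map k.hom).cond))
  haveI : QuasiCompact (P.map ψ.left).hom := inferInstance
  haveI : QuasiCompact ((P.map ψ.left).hom ∣_ U) :=
    IsZariskiLocalAtTarget.restrict (P := @QuasiCompact) ‹QuasiCompact (P.map ψ.left).hom› U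
  haveI : IsSchemeTheoreticallyDominant ((P.map ψ.left).hom ∣_ U) :=
    IsSchemeTheoreticallyDominant.of_isPullback (isPullback_morphismRestrict (P.map ψ.left).hom U).flip
  let m := (pullDiag r).map ψ
  have hdom : IsSchemeTheoreticallyDominant (m ∣_ (q ⁻¹ᵁ U)) := by
    have h1 : IsPullback ((m ⁻¹ᵁ (q ⁻¹ᵁ U)).ι ≫ pullback.snd r.hom (P.map j.hom).hom) (m ∣_ (q ⁻¹ᵁ U))
        (P.map ψ.left).hom ((q ∣_ U) ≫ U.ι) := by
      rw [morphismRestrict_ι]
      exact (isPullback_morphismRestrict m _).flip.paste_horiz (isPullback_map (P ⋙ Pair.forget) i r.hom ψ).flip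
    obtain ⟨l, -, hl⟩ := GrothLib.LimDesc.exists_isPullback_of_comp h1
      (isPullback_morphismRestrict (P.map ψ.left).hom U).flip
    exact IsSchemeTheoreticallyDominant.of_isPullback hl
  rw [← hOk] at hdom
  haveI := quasiCompact_pullOpens hP r k
  exact dominant_trans (pullOpens hP r) ψ

end GrothLib.ModLim8
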